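import Cfsg.Agent.Block.ZStar
import Cfsg.Agent.Solv.CoprimeSylow
import Cfsg.Agent.FGS.Conj

/-! The centraliser of an element of odd prime order with an isolated involution. -/

set_option autoImplicit false

namespace Cfsg.Agent.RV

open Subgroup Cfsg.Agent.Solv
open scoped Pointwise

variable {G : Type*} [Group G]

theorem two_grp {s : Set G} {z : G} (zz : z * z = 1) (hz : ∀ a ∈ s, Commute a z) (h1 : ∀ a ∈ s, a * a ∈ zpowers z)
    (h2 : ∀ a ∈ s, ∀ b ∈ s, a * b * a⁻¹ * b⁻¹ ∈ zpowers z) : IsPGroup 2 (closure s) := by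
  have c : ∀ a ∈ closure s, ∀ e ∈ zpowers z, a * e * a⁻¹ = e := fun a ha e he => by
    obtain ⟨n, rfl⟩ := he
    exact mul_inv_eq_iff_eq_mul.2 (Commute.zpow_right
      (closure_le (K := centralizer {z}).2 (fun a ha => mem_centralizer_singleton_iff.2 (hz a ha)) ha z rfl).symm n)
  have k : ∀ a ∈ closure s, ∀ b ∈ closure s, a * b * a⁻¹ * b⁻¹ ∈ zpowers z := fun a ha b hb => by
    induction ha, hb using closure_induction₂ with
    | mem a b ha hb => exact h2 a ha b hb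
    | one_left => simp
    | one_right => simp
    | mul_left a b d ha _ _ e f => convert mul_mem ((c a ha _ f).symm ▸ f) e using 1; group
    | mul_right a b d ha _ _ e f => convert mul_mem e ((c a ha _ f).symm ▸ f) using 1; group
    | inv_left a b ha _ e => convert (c _ (inv_mem ha) _ (inv_mem e)).symm ▸ inv_mem e using 1; group
    | inv_right a b _ hb e => convert (c _ (inv_mem hb) _ (inv_mem e)).symm ▸ inv_mem e using 1; group
  have q : ∀ a ∈ closure s, a * a ∈ zpowers z := fun a ha => by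
    induction ha using closure_induction with
    | mem a ha => exact h1 a ha
    | one => simp
    | mul a b ha hb e f =>
      have := k _ hb _ ha
      convert mul_mem (mul_mem ((c a ha _ this).symm ▸ this) e) f using 1; group
    | inv a _ e => simpa using inv_mem e
  refine fun a => ⟨2, Subtype.ext ?_⟩
  obtain ⟨n, e⟩ := q a a.2
  have : (a : G) ^ 2 ^ 2 = (z * z) ^ n := by
    rw [(Commute.refl z).mul_zpow]; simp only [e]; simp [pow_succ, mul_assoc]
  simpa [zz] using this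

variable [Finite G] {p : ℕ} [Fact p.Prime]

theorem mem_of_sq {P H : Subgroup G} (hp : p ≠ 2) (hP : IsPGroup p P) {a : G} (ha : a ∈ P) (h : a * a ∈ H) : a ∈ H := by
  obtain ⟨k, e⟩ := hP ⟨a, ha⟩
  refine zpowers_le.2 (sq a ▸ h) (mem_zpowers_pow_iff.2 (Nat.Coprime.coprime_dvd_right
    (orderOf_dvd_of_pow_eq_one (congrArg Subtype.val e)) ?_))
  exact ((Nat.coprime_primes Nat.prime_two Fact.out).2 hp.symm).pow_right k

theorem dec {P : Subgroup G} (hp : p ≠ 2) (hP : IsPGroup p P) {s : G} (ss : s * s = 1) (hs : s ∈ normalizer (P : Set G))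
    {g : G} (hg : g ∈ P) : ∃ d ∈ P, s * d * s⁻¹ = d⁻¹ ∧ Commute s (g * d⁻¹) := by
  have s1 : s⁻¹ = s := inv_eq_of_mul_eq_one_right ss
  have ha := mul_mem ((hs _).1 (inv_mem hg)) hg
  have e : s * (s * g⁻¹ * s⁻¹ * g) * s⁻¹ = (s * g⁻¹ * s⁻¹ * g)⁻¹ := by simp [← mul_assoc, ss, s1]
  obtain ⟨n, hn⟩ := mem_of_sq hp hP ha (mem_zpowers _)
  have e1 : s * (s * g⁻¹ * s⁻¹ * g) ^ n * s⁻¹ = ((s * g⁻¹ * s⁻¹ * g) ^ n)⁻¹ := by rw [← conj_zpow, e, inv_zpow]
  refine ⟨_, zpow_mem ha n, e1, mul_inv_eq_iff_eq_mul.1 ?_⟩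
  simp only [(Commute.refl _).mul_zpow] at hn
  generalize (s * g⁻¹ * s⁻¹ * g) ^ n = d at hn e1
  rw [← conj_mul, ← conj_inv, e1, inv_inv, eq_mul_inv_iff_mul_eq, mul_assoc, hn]
  group

theorem mem_zp {a b : G} (hb : orderOf b = p) (h : a ∈ zpowers b) (h1 : a ≠ 1) : b ∈ zpowers a :=
  (mem_zpowers_of_prime_card ((Nat.card_zpowers b).trans hb) (g := ⟨a, h⟩) (g' := ⟨b, mem_zpowers b⟩)
    fun e => h1 (congrArg Subtype.val e)).imp fun _ => congrArg Subtype.val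

/-- All pairs of a conjugate of `z` and a `p`-subgroup of its centraliser come from `(z, ⟨x⟩)`. -/
theorem fuse {x z s : G} (hx : orderOf x = p) (zx : Commute z x) (hc : ¬ p ^ 2 ∣ Nat.card (centralizer ({z} : Set G)))
    (hs : IsConj z s) {Q : Subgroup G} (hQ : IsPGroup p Q) :
    ∃ g, g * z * g⁻¹ = s ∧ ∃ y ∈ Q, (y = 1 ∨ y = g * x * g⁻¹) ∧ ∀ q ∈ Q, Commute s q → q ∈ zpowers y := by
  suffices h : ∃ g, g * z * g⁻¹ = s ∧ ∀ q ∈ Q, Commute s q → q ∈ zpowers (g * x * g⁻¹) from h.imp fun g h => by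
    by_cases k : g * x * g⁻¹ ∈ Q
    · exact ⟨h.1, _, k, .inr rfl, h.2⟩
    · exact ⟨h.1, 1, one_mem _, .inl rfl, fun q hq e => by_contra fun e' => k (zpowers_le.2 hq (mem_zp
        (((MulAut.conj g).orderOf_eq x).trans hx) (h.2 q hq e) fun e => e' (by simp [e])))⟩
  obtain ⟨g, rfl⟩ := isConj_iff.1 hs
  let x' : centralizer ({z} : Set G) := ⟨x, mem_centralizer_singleton_iff.2 zx.symm⟩
  have h1 : Nat.card (zpowers x') = p := by rw [Nat.card_zpowers, ← hx, ← orderOf_coe]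
  let S := (IsPGroup.of_card (h1.trans (pow_one p).symm)).toSylow fun k => hc (by
    rw [← (zpowers x').card_mul_index, h1, sq]; exact mul_dvd_mul_left p k)
  obtain ⟨T, hT⟩ := ((hQ.comap_of_injective (MulAut.conj g).toMonoidHom (MulAut.conj g).injective).comap_subtype
    (K := centralizer {z})).exists_le_sylow
  obtain ⟨c, rfl⟩ := MulAction.exists_smul_eq (centralizer ({z} : Set G)) S T
  refine ⟨g * c, by rw [mul_assoc g, mem_centralizer_singleton_iff.1 c.2]; group, fun q hq e => ?_⟩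
  obtain ⟨_, ⟨n, rfl⟩, k⟩ := hT (x := ⟨g⁻¹ * q * g, mem_centralizer_singleton_iff.2 (by
    have := (e.map (MulAut.conj g⁻¹)).symm.eq
    simpa [mul_assoc] using this)⟩) (by simpa [mem_subgroupOf, mul_assoc] using hq)
  refine ⟨n, ?_⟩
  have : c * x ^ n * (c : G)⁻¹ = g⁻¹ * q * g := by simpa using congrArg Subtype.val k
  simp only [conj_zpow]
  rw [mul_assoc g, mul_inv_rev, ← mul_assoc, mul_assoc g, this]
  group

theorem mem_core {x z g : G} (hp : p ≠ 2) (hx : orderOf x = p) (xc : ∀ g, Commute x g) (hz : IsIsolatedInvolution z)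
    (hc : ¬ p ^ 2 ∣ Nat.card (centralizer ({z} : Set G))) {k : ℕ} (hg : g ^ p ^ k = 1) : g ∈ pPrimeCore 2 G := by
  have zz : z * z = 1 := by rw [← sq, ← hz.1, pow_orderOf_eq_one]
  have h1 : z * (g * z * g⁻¹) ∈ pPrimeCore 2 G := by
    simpa [inv_eq_of_mul_eq_one_right zz, mul_assoc] using Block.zstar hz g
  obtain ⟨n, hn⟩ := Inv.exists_conj_of_odd_orderOf_mul zz (s := g * z * g⁻¹) (by rw [conj_mul, zz]; simp)
    (Nat.coprime_two_right.1 (Grp.orderOf_coprime_of_mem_pPrimeCore h1))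
  have hN : (zpowers x).Normal := ⟨by rintro _ ⟨m, rfl⟩ a; simp [← (xc a).zpow_left m |>.eq]⟩
  have h2 : Nat.card (zpowers x) = p := by rw [Nat.card_zpowers, hx]
  have h3 := Grp.le_pPrimeCore hN (p := 2) (h2 ▸ (Nat.coprime_primes Fact.out Nat.prime_two).2 hp)
    ((zpowers x).pow_relIndex_mem (K := centralizer {z}) (g := (z * (g * z * g⁻¹)) ^ n * g)
      (mem_centralizer_singleton_iff.2 (by
        generalize (z * (g * z * g⁻¹)) ^ n = d at hn
        rw [← mul_assoc z, ← mul_inv_eq_iff_eq_mul.1 hn]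
        group)))
  have h4 : ¬ p ∣ (zpowers x).relIndex (centralizer {z}) := fun k => hc (by
    rw [← relIndex_bot_left, ← relIndex_mul_relIndex ⊥ (zpowers x) _ bot_le
      (zpowers_le.2 (mem_centralizer_singleton_iff.2 (xc z))), relIndex_bot_left, h2, sq]
    exact mul_dvd_mul_left p k)
  rw [← QuotientGroup.eq_one_iff] at h3 ⊢
  rw [QuotientGroup.mk_pow, QuotientGroup.mk_mul, (QuotientGroup.eq_one_iff _).2 (pow_mem h1 n), one_mul] at h3
  exact orderOf_eq_one_iff.1 (Nat.eq_one_of_dvd_coprimes (((Nat.Prime.coprime_iff_not_dvd Fact.out).2 h4).pow_left k)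
    (orderOf_dvd_of_pow_eq_one (by rw [← QuotientGroup.mk_pow, hg]; rfl)) (orderOf_dvd_of_pow_eq_one h3))

theorem adj {A K : Subgroup G} (hAK : A ≤ normalizer (K : Set G)) (hA : IsPGroup 2 A) (hK : (Nat.card K).Coprime 2)
    (S : Sylow p K) {P : Subgroup G} (hP : P = (S : Subgroup K).map K.subtype) (hAP : A ≤ normalizer (P : Set G))
    {g : G} (h1 : ∀ s ∈ P, g⁻¹ * s * g ∈ K) (h2 : ∀ a ∈ A, g * a * g⁻¹ ∈ normalizer (P : Set G)) :
    ∃ c ∈ centralizer (A : Set G), g * c ∈ normalizer (P : Set G) := by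
  obtain ⟨n, hn⟩ := IsPGroup.iff_card.1 hA
  have h3 : MulAut.conj g⁻¹ • P ≤ K := fun s hs => by
    simpa [mul_assoc] using h1 _ (mem_conj_smul_iff.1 hs)
  let T : Sylow p K := Sylow.ofCard ((MulAut.conj g⁻¹ • P).subgroupOf K) (by
    rw [Nat.card_congr (subgroupOfEquivOfLe h3).toEquiv, card_conj_smul, hP,
      card_map_of_injective (subtype_injective K), S.card_eq_multiplicity])
  have h4 : (T : Subgroup K).map K.subtype = MulAut.conj g⁻¹ • P := map_subgroupOf_eq_of_le h3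
  obtain ⟨c, h5, h6⟩ := invariant_sylow_conj A K hAK (hn ▸ hK.symm.pow_left n) (.inl (by
    have := hA.isNilpotent; infer_instance)) p S T (hP ▸ hAP) fun a ha => by
      rw [h4, ← conj_smul_eq_iff_mem_normalizer', smul_smul, ← map_mul,
        show a * g⁻¹ = g⁻¹ * (g * a * g⁻¹) by group, map_mul, mul_smul, conj_smul_eq_iff_mem_normalizer'.2 (h2 a ha)]
  refine ⟨c, h5, conj_smul_eq_iff_mem_normalizer'.1 ?_⟩
  rw [map_mul, mul_smul, ← eq_inv_smul_iff, ← map_inv, ← h4, ← h6, hP, ← map_subtype_conj_smul]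
  rfl

theorem exists_commute {x : G} (hx : orderOf x = p) (h : p ^ 2 ∣ Nat.card G) :
    ∃ g k, Commute x g ∧ g ^ p ^ k = 1 ∧ g ∉ zpowers x := by
  have h2 : Nat.card (zpowers x) = p := by rw [Nat.card_zpowers, hx]
  obtain ⟨S, hS⟩ := (IsPGroup.of_card (h2.trans (pow_one p).symm)).exists_le_sylow
  by_contra! hc
  replace hc : ∀ g : S, Commute x g → (g : G) ∈ zpowers x := fun g e =>
    (S.2 g).elim fun k e' => hc g k e (congrArg Subtype.val e')
  have : Nontrivial S := (nontrivial_iff_ne_bot _).2 fun e => by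
    rw [e, le_bot_iff, zpowers_eq_bot] at hS
    exact (Fact.out : p.Prime).one_lt.ne (by rw [← hx, hS, orderOf_one])
  obtain ⟨c, h3⟩ := @exists_ne _ S.2.center_nontrivial 1
  have h4 := mem_center_iff.1 c.2
  obtain ⟨n, h5⟩ := mem_zp hx (hc c (congrArg Subtype.val (h4 ⟨x, hS (mem_zpowers x)⟩))) fun e => h3 (by simpa using e)
  have h6 : (S : Subgroup G) ≤ zpowers x := fun g hg => hc ⟨g, hg⟩
    (h5 ▸ Commute.zpow_left (congrArg Subtype.val (h4 ⟨g, hg⟩)).symm n)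
  have h7 := (S.pow_dvd_card_of_pow_dvd_card h).trans (card_dvd_of_le h6)
  rw [h2, sq] at h7
  exact (Fact.out : p.Prime).not_isUnit (isUnit_of_dvd_one ((mul_dvd_mul_iff_left (Fact.out : p.Prime).ne_zero).1
    (by rwa [mul_one])))

/-- A `p`-group with a four-group and two more automorphisms. -/
theorem coord {P : Subgroup G} {x z t i j : G} (hp : p ≠ 2) (hP : IsPGroup p P) (hx : orderOf x = p) (xP : x ∈ P)
    (xc : ∀ s ∈ P, Commute x s) (zz : z * z = 1) (tt : t * t = 1) (tz : Commute t z) (zx : Commute z x)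
    (tx : t * x * t⁻¹ = x⁻¹) (hc : ¬ p ^ 2 ∣ Nat.card (centralizer ({z} : Set G))) (c1 : IsConj z t)
    (c2 : IsConj z (z * t)) (zN : z ∈ normalizer (P : Set G)) (tN : t ∈ normalizer (P : Set G))
    (iN : i ∈ normalizer (P : Set G)) (jN : j ∈ normalizer (P : Set G)) (ix : Commute i x) (jx : Commute j x)
    (ij : i * j = z * (j * i)) (ne : ¬ P ≤ zpowers x) : ∃ g y w, g * z * g⁻¹ = t ∧ y = g * x * g⁻¹ ∧ IsConj x w ∧
      y ∈ P ∧ w ∈ P ∧ (∀ s ∈ P, ∃ c ∈ zpowers y, ∃ d ∈ zpowers w, ∃ e ∈ zpowers x, s = c * d * e) ∧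
      z * y * z⁻¹ = y⁻¹ ∧ z * w * z⁻¹ = w⁻¹ ∧ Commute t y ∧ t * w * t⁻¹ = w⁻¹ ∧ y * w * y⁻¹ * w⁻¹ ∈ zpowers x := by
  have x1 : x ≠ 1 := fun e => (Fact.out : p.Prime).one_lt.ne (by rw [← hx, e, orderOf_one])
  have h0 : ∀ c ∈ P, Commute z c → c ∈ zpowers x := fun c k e => by
    obtain ⟨g, -, y, -, rfl | rfl, h⟩ := fuse hx zx hc (IsConj.refl z) hP
    · exact absurd (by simpa using h x xP zx) x1
    · exact zpowers_le.2 (mem_zp (((MulAut.conj g).orderOf_eq x).trans hx) (h x xP zx) x1) (h c k e)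
  have XP := zpowers_le.2 xP
  have cm : ∀ {s e}, Commute s x → e ∈ zpowers x → s * e * s⁻¹ = e := fun k ⟨n, e⟩ =>
    mul_inv_eq_iff_eq_mul.2 (e ▸ k.zpow_right n)
  have iv : ∀ {s e}, s * x * s⁻¹ = x⁻¹ → e ∈ zpowers x → s * e * s⁻¹ = e⁻¹ := fun k ⟨n, e⟩ => by
    rw [← e, ← conj_zpow, k, inv_zpow]
  have inv : ∀ g ∈ P, g * (z * g * z⁻¹) ∈ zpowers x := fun g hg => by
    obtain ⟨d, h1, h2, h3⟩ := dec hp hP zz zN hg
    have h4 := h0 _ (mul_mem hg (inv_mem h1)) h3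
    obtain ⟨c, rfl⟩ : ∃ c, g = c * d := ⟨g * d⁻¹, by simp⟩
    rw [mul_inv_cancel_right] at h3 h4
    rw [← conj_mul, h2, mul_inv_eq_iff_eq_mul.2 h3, mul_assoc, ← mul_assoc d, cm (xc d h1).symm h4]
    exact mul_mem h4 h4
  have cyc : ∀ s ∈ P, ¬ ∀ g ∈ P, ∃ c ∈ zpowers s, ∃ e ∈ zpowers x, g = c * e := fun s hs h => ne fun g hg => by
    obtain ⟨_, ⟨a, rfl⟩, e, he, h1⟩ := h _ ((iN s).1 hs)
    obtain ⟨_, ⟨b, rfl⟩, f, hf, h2⟩ := h _ ((jN s).1 hs)
    have k : ∀ {i j : G} {a b : ℤ} {e f}, Commute j x → e ∈ zpowers x → f ∈ zpowers x → i * s * i⁻¹ = s ^ a * e →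
        j * s * j⁻¹ = s ^ b * f → j * i * s * (j * i)⁻¹ = s ^ (b * a) * (f ^ a * e) := fun {i j a b e f} k he hf h1 h2 => by
      rw [show j * i * s * (j * i)⁻¹ = j * (i * s * i⁻¹) * j⁻¹ by group, h1, ← conj_mul, ← conj_zpow, h2, cm k he,
        Commute.mul_zpow (mul_inv_eq_iff_eq_mul.1 (cm (xc _ (zpow_mem hs b)).symm hf)), zpow_mul, mul_assoc]
    have h3 := (mul_mem jN iN s).1 hs
    have h4 := inv _ h3
    rw [show z * (j * i * s * (j * i)⁻¹) * z⁻¹ = i * j * s * (i * j)⁻¹ by rw [ij]; group, k ix hf he h2 h1, mul_comm a,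
      ← mul_inv_eq_iff_eq_mul.2 (k jx he hf h1 h2), ← mul_assoc, ← mul_assoc, ← mul_assoc, mul_mem_cancel_right hf,
      mul_mem_cancel_right (zpow_mem he b), mul_mem_cancel_right (inv_mem (mul_mem (zpow_mem hf a) he))] at h4
    have h5 := mem_of_sq hp hP h3 h4
    have h6 := cm (jx.mul_left ix).inv_left h5
    obtain ⟨c, h7, e, h8, rfl⟩ := h g hg
    exact mul_mem (zpowers_le.2 (by convert h6.symm ▸ h5 using 1; group) h7) h8
  have zt : z * t * (z * t) = 1 := by rw [mul_assoc, ← mul_assoc t, tz.eq, mul_assoc, tt, mul_one, zz]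
  have ztx : z * t * x * (z * t)⁻¹ = x⁻¹ := by
    rw [show z * t * x * (z * t)⁻¹ = z * (t * x * t⁻¹) * z⁻¹ by group, tx, cm zx (inv_mem (mem_zpowers x))]
  have all : ∀ s ∈ P, ∃ c ∈ P, Commute t c ∧ ∃ d ∈ P, Commute (z * t) d ∧ ∃ e ∈ zpowers x, s = c * d * e := fun s hs => by
    obtain ⟨a, h1, h2, h3⟩ := dec hp hP tt tN hs
    obtain ⟨b, h4, h5, h6⟩ := dec hp hP zt (mul_mem zN tN) h1
    refine ⟨_, mul_mem hs (inv_mem h1), h3, _, mul_mem h1 (inv_mem h4), h6, b, mem_of_sq hp hP h4 ?_, by group⟩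
    have h7 := inv _ (inv_mem h1)
    rw [← h2, show z * (t * a * t⁻¹) * z⁻¹ = z * t * (a * b⁻¹) * (z * t)⁻¹ * (z * t * b * (z * t)⁻¹) by group, h5,
      mul_inv_eq_iff_eq_mul.2 h6, h2] at h7
    simpa [mul_assoc] using inv_mem h7
  have zi : ∀ {s y}, s * x * s⁻¹ = x⁻¹ → Commute s z → y ∈ P → Commute s y → z * y * z⁻¹ = y⁻¹ := fun {s y} a b c d => by
    have h1 := inv y c
    have h2 := iv a h1
    rw [mul_inv_eq_iff_eq_mul.2 (d.mul_right ((b.mul_right d).mul_right b.inv_right)), eq_inv_iff_mul_eq_one] at h2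
    exact eq_inv_of_mul_eq_one_right (mem_bot.1 (mem_of_sq hp hP (XP h1) (mem_bot.2 h2)))
  obtain ⟨g, h1, y, h2, h3, h4⟩ := fuse hx zx hc c1 hP
  obtain ⟨k, k1, w, k2, k3, k4⟩ := fuse hx zx hc c2 hP
  replace all : ∀ s ∈ P, ∃ c ∈ zpowers y, ∃ d ∈ zpowers w, ∃ e ∈ zpowers x, s = c * d * e := fun s hs =>
    let ⟨c, a, b, d, a', b', e⟩ := all s hs; ⟨c, h4 c a b, d, k4 d a' b', e⟩
  replace h3 := h3.resolve_left (by rintro rfl; exact cyc w k2 (by simpa using all))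
  replace k3 := k3.resolve_left (by rintro rfl; exact cyc y h2 (by simpa using all))
  have ty : Commute t y := h1 ▸ h3 ▸ zx.map (MulAut.conj g)
  have tw : Commute (z * t) w := k1 ▸ k3 ▸ zx.map (MulAut.conj k)
  have zy := zi tx tz h2 ty
  have zw := zi ztx ((Commute.refl z).mul_left tz) k2 tw
  refine ⟨g, y, w, h1, h3, isConj_iff.2 ⟨k, k3.symm⟩, h2, k2, all, zy, zw, ty, ?_, ?_⟩
  · refine (MulAut.conj z).injective ((show _ = z * t * w * (z * t)⁻¹ by simp [mul_assoc]).trans ?_)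
    rw [mul_inv_eq_iff_eq_mul.2 tw, map_inv, MulAut.conj_apply, zw, inv_inv]
  · simpa only [← conj_mul, zy, zw, ← mul_assoc (y * w)] using inv _ (mul_mem h2 k2)

end Cfsg.Agent.RV
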