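import Cfsg.Agent.RV.Loc13
import Cfsg.Agent.RV.Mon13
import Cfsg.Agent.RV.Ab13

/-! The Sylow 13-subgroup of the Monster. -/

set_option autoImplicit false

namespace Cfsg.Agent.RV

open Matrix Subgroup

theorem not_mono {I J R R' : M2 13} (ii : I * I = -1) (jj : J * J = -1) (ij : I * J * (I * J) = -1) (r : R' * R = 1)
    (ri : R * I = J * R ∨ R * I = J * -1 * R) (rj : R * J = I * J * R ∨ R * J = I * J * -1 * R) :
    ∃ B ∈ [I, J, R], ∃ k, B 0 k ≠ 0 ∧ B 1 k ≠ 0 := by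
  by_contra! hc
  have m : ∀ B ∈ [I, J, R], ∀ B' : M2 13, B' * B = 1 → ∃ a ≠ 0, ∃ b ≠ 0, B = !![a, 0; 0, b] ∨ B = !![0, a; b, 0] :=
    fun B hB B' e => by
      have h0 := right_ne_zero_of_mul_eq_one ((det_mul _ _).symm.trans (by rw [e, det_one]))
      rw [det_fin_two] at h0
      rw [eta_fin_two B]
      rcases or_iff_not_imp_left.2 (hc B hB 0) with h1 | h1 <;> rcases or_iff_not_imp_left.2 (hc B hB 1) with h2 | h2 <;>
        simp [h1, h2] at h0
      · exact ⟨_, h0.1, _, h0.2, .inr (by simp [h1, h2])⟩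
      · exact ⟨_, h0.1, _, h0.2, .inl (by simp [h1, h2])⟩
  obtain ⟨a, a0, b, b0, h1⟩ := m I (by simp) (-I) (by simp [ii])
  obtain ⟨c, c0, d, d0, h2⟩ := m J (by simp) (-J) (by simp [jj])
  obtain ⟨e, e0, f, f0, h3⟩ := m R (by simp) R' r
  clear m hc r
  rcases h1 with rfl | rfl <;> rcases h2 with rfl | rfl
  · have h1 := congrFun (congrFun ii 0) 0
    have h2 := congrFun (congrFun jj 0) 0
    have h3 := congrFun (congrFun ij 0) 0
    simp at h1 h2 h3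
    exact (by decide : (2 : ZMod 13) ≠ 0) (by linear_combination h3 - c * c * h1 + h2)
  all_goals rcases h3 with rfl | rfl <;> simp [*] at ri rj

variable {G : Type*} [Group G] [Finite G] {P : Subgroup G} {x y w z t i j n : G}

theorem nonab (hx : orderOf x = 13) (xc : ∀ s ∈ P, Commute x s) (xy : IsConj x y) (xw : IsConj x w)
    (yP : y ∈ P) (wP : w ∈ P) (all : ∀ s ∈ P, ∃ c ∈ zpowers y, ∃ d ∈ zpowers w, ∃ e ∈ zpowers x, s = c * d * e)
    (zy : z * y * z⁻¹ = y⁻¹) (zw : z * w * z⁻¹ = w⁻¹) (yw : y * w * y⁻¹ * w⁻¹ ∈ zpowers x) (h1 : ¬ Commute y w)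
    (iN : i ∈ normalizer (P : Set G)) (jN : j ∈ normalizer (P : Set G)) (nN : n ∈ normalizer (P : Set G))
    (ii : i * i = z) (jj : j * j = z) (ij : i * j * (i * j) = z) (ni : n * i = j * n ∨ n * i = j * z * n)
    (nj : n * j = i * j * n ∨ n * j = i * j * z * n) : ∃ u : V2 13 → ZMod 13 → G, Hs u ∧ Three (Fz u) := by
  have x1 := hx ▸ pow_orderOf_eq_one x
  have cm : ∀ s ∈ P, Commute s (y * w * y⁻¹ * w⁻¹) := fun s hs => yw.elim fun m e => e ▸ (xc s hs).symm.zpow_right m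
  have h2 : y * w * y⁻¹ * w⁻¹ ≠ 1 := fun e => h1 (commutatorElement_eq_one_iff_commute.1 e)
  obtain ⟨u, h, hu⟩ := exists_hs (p := 13) (by decide) (isConj_one_right.1 (x1 ▸ xy.pow 13))
    (isConj_one_right.1 (x1 ▸ xw.pow 13)) (orderOf_dvd_iff_pow_eq_one.1 (hx ▸ orderOf_dvd_of_mem_zpowers yw))
      h2 (cm y yP) (cm w wP) (by rw [(cm _ (mul_mem wP yP)).eq]; group)
  have uy : u ![1, 0] 0 = y := by simpa using hu 1 0 0
  have uw : u ![0, 1] 0 = w := by simpa using hu 0 1 0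
  have ex : ∀ g ∈ normalizer (P : Set G), ∃ A, Nrm u g A := fun g hg => by
    have k : ∀ s ∈ P, ∃ v c, s = u v c := fun s hs => by
      obtain ⟨_, h3, _, h4, _, h5, rfl⟩ := all s hs
      obtain ⟨a, rfl⟩ := mem_powers_iff_mem_zpowers.2 h3
      obtain ⟨b, rfl⟩ := mem_powers_iff_mem_zpowers.2 h4
      obtain ⟨c, rfl⟩ := mem_powers_iff_mem_zpowers.2 (zpowers_le.2 (mem_zp hx yw h2) h5)
      exact ⟨_, _, (hu a b c).symm⟩
    obtain ⟨v, c, h3⟩ := k _ ((hg y).1 yP)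
    obtain ⟨v', c', h4⟩ := k _ ((hg w).1 wP)
    exact ⟨!![v 0, v' 0; v 1, v' 1], h.nrm (by decide) (d₀ := c) (d₁ := c') (by simpa [uy, ← eta] using h3)
      (by simpa [uw, ← eta] using h4)⟩
  have ml : ∀ {g k A B}, Nrm u g A → Nrm u k B → Nrm u (g * k) (A * B) := fun {g k A B} a b v c => by
    obtain ⟨d, e⟩ := b v c
    obtain ⟨d', e'⟩ := a (B *ᵥ v) d
    exact ⟨d', by rw [← mulVec_mulVec, ← e', ← e]; group⟩
  have un : ∀ {g k A B}, Nrm u g A → Nrm u k B → g = k → A = B := fun a b e => ext_iff_mulVec.2 fun v =>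
    (a v 0).elim fun _ a => (b v 0).elim fun _ b => (h.eq_iff.1 (a.symm.trans (e ▸ b))).1
  have hz : Nrm u z (-1) := h.nrm (by decide) (d₀ := 0) (d₁ := 0) (by rw [uy, zy, ← uy, h.inv]; simp)
    (by rw [uw, zw, ← uw, h.inv]; simp)
  obtain ⟨I, hI⟩ := ex i iN
  obtain ⟨J, hJ⟩ := ex j jN
  obtain ⟨R, hR⟩ := ex n nN
  obtain ⟨R', hR'⟩ := ex _ (inv_mem nN)
  obtain ⟨c, hc⟩ := mem_powers_iff_mem_zpowers.2 (mem_zp hx yw h2)
  have ux : u 0 (2 * c) = x := by rw [eta 0]; simpa [← hc] using hu 0 0 c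
  have f0 : Fz u ![1, 0] := ⟨0, _, by rw [uy, ux]; exact xy.symm⟩
  have f1 : Fz u ![0, 1] := ⟨0, _, by rw [uw, ux]; exact xw.symm⟩
  obtain ⟨B, hB, k, h3, h4⟩ := not_mono (un (ml hI hI) hz ii) (un (ml hJ hJ) hz jj) (un (ml (ml hI hJ) (ml hI hJ)) hz ij)
    (un (ml hR' hR) (fun v c => ⟨c, by simp⟩) (inv_mul_cancel n))
    (ni.imp (un (ml hR hI) (ml hJ hR)) (un (ml hR hI) (ml (ml hJ hz) hR)))
    (nj.imp (un (ml hR hJ) (ml (ml hI hJ) hR)) (un (ml hR hJ) (ml (ml (ml hI hJ) hz) hR)))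
  obtain ⟨g, hg⟩ : ∃ g, Nrm u g B := by
    simp only [List.mem_cons, List.not_mem_nil, or_false] at hB
    rcases hB with rfl | rfl | rfl
    exacts [⟨_, hI⟩, ⟨_, hJ⟩, ⟨_, hR⟩]
  have f2 : ∀ v, Fz u v → Fz u (B *ᵥ v) := fun v ⟨c, k, e⟩ =>
    (hg v c).imp fun d e' => ⟨k, (isConj_iff.2 ⟨g, e'⟩).symm.trans e⟩
  refine ⟨u, h, _, _, ![B 0 k, B 1 k], f0, f1, ?_, by decide, by simpa [om] using h4, by simpa [om] using h3⟩
  fin_cases k
  · convert f2 _ f0 using 1; rw [eta_fin_two B, mv]; simp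
  · convert f2 _ f1 using 1; rw [eta_fin_two B, mv]; simp

theorem abel {g : G} (h4 : ¬ 13 ^ 4 ∣ Nat.card G) (hx : orderOf x = 13) (xP : x ∈ P) (xy : IsConj x y) (xw : IsConj x w)
    (yP : y ∈ P) (wP : w ∈ P) (all : ∀ s ∈ P, ∃ c ∈ zpowers y, ∃ d ∈ zpowers w, ∃ e ∈ zpowers x, s = c * d * e)
    (c1 : Commute x y) (c2 : Commute x w) (c3 : Commute y w) (zx : Commute z x) (zy : z * y * z⁻¹ = y⁻¹)
    (zw : z * w * z⁻¹ = w⁻¹) (tx : t * x * t⁻¹ = x⁻¹) (ty : Commute t y) (tw : t * w * t⁻¹ = w⁻¹)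
    (ix : Commute i x) (jx : Commute j x) (tN : t ∈ normalizer (P : Set G))
    (iN : i ∈ normalizer (P : Set G)) (jN : j ∈ normalizer (P : Set G)) (nN : n ∈ normalizer (P : Set G))
    (gN : g ∈ normalizer (P : Set G)) (ii : i * i = z) (jj : j * j = z) (ij : i * j * (i * j) = z) (nz : Commute n z)
    (ni : n * i = j * n ∨ n * i = j * z * n) (nj : n * j = i * j * n ∨ n * j = i * j * z * n)
    (ti : t * i = i * t ∨ t * i = i * z * t) (tj : t * j = j * t ∨ t * j = j * z * t) (gz : g * z = t * g) : False := by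
  have o : ∀ {s}, IsConj x s → orderOf s = 13 := fun e => by
    obtain ⟨k, rfl⟩ := isConj_iff.1 e
    exact ((MulAut.conj k).orderOf_eq x).trans hx
  have pw : ∀ {s : G}, orderOf s = 13 → ∀ {a b : ℕ}, s ^ a = s ^ b ↔ (a : ZMod 13) = b := fun e _ _ => by
    rw [pow_eq_pow_iff_modEq, e, ZMod.natCast_eq_natCast_iff]
  obtain ⟨φ, hφ⟩ : ∃ φ : (Fin 3 → ZMod 13) → G, ∀ v, φ v = x ^ (v 0).val * y ^ (v 1).val * w ^ (v 2).val := ⟨_, fun _ => rfl⟩
  have ad : ∀ {s : G}, orderOf s = 13 → ∀ a b : ZMod 13, s ^ (a + b).val = s ^ a.val * s ^ b.val := fun e _ _ => by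
    rw [← pow_add, pw e]; simp
  have ng : ∀ {s : G}, orderOf s = 13 → ∀ a : ZMod 13, s ^ (-a).val = s⁻¹ ^ a.val := fun e _ => by
    rw [inv_pow, eq_inv_iff_mul_eq_one, ← ad e]; simp
  have add : ∀ u v, φ (u + v) = φ u * φ v := fun u v => by
    simp only [hφ, Pi.add_apply, ad hx, ad (o xy), ad (o xw)]
    rw [Commute.mul_mul_mul_comm (c1.pow_pow ..), Commute.mul_mul_mul_comm ((c2.pow_pow ..).mul_left (c3.pow_pow ..))]
  have p0 : φ 0 = 1 := by simp [hφ]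
  have hZ : ∀ v, z * φ v * z⁻¹ = φ (!![1, 0, 0; 0, -1, 0; 0, 0, -1] *ᵥ v) := fun v => by
    simp only [hφ, ← conj_mul, ← conj_pow, zy, zw, mul_inv_eq_iff_eq_mul.2 zx, ← ng (o xy), ← ng (o xw)]
    simp [mulVec, dotProduct, Fin.sum_univ_three]
  have hT : ∀ v, t * φ v * t⁻¹ = φ (!![-1, 0, 0; 0, 1, 0; 0, 0, -1] *ᵥ v) := fun v => by
    simp only [hφ, ← conj_mul, ← conj_pow, tx, tw, mul_inv_eq_iff_eq_mul.2 ty, ← ng hx, ← ng (o xw)]
    simp [mulVec, dotProduct, Fin.sum_univ_three]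
  have inj : Function.Injective φ := fun u v e => by
    obtain ⟨d, rfl⟩ : ∃ d, u = v + d := ⟨u - v, by simp⟩
    rw [add, mul_eq_left] at e
    have z0 : ∀ {s : G}, orderOf s = 13 → ∀ a : ZMod 13, s ^ a.val = 1 → a = 0 := fun k a e =>
      (ZMod.natCast_zmod_val a).symm.trans ((pw k (b := 0)).1 (by rw [e, pow_zero]))
    have h1 : φ (d + !![1, 0, 0; 0, -1, 0; 0, 0, -1] *ᵥ d) = 1 := by rw [add, ← hZ, e]; simp
    have h2 : φ (d + !![-1, 0, 0; 0, 1, 0; 0, 0, -1] *ᵥ d) = 1 := by rw [add, ← hT, e]; simp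
    simp [hφ, vecHead, vecTail] at h1 h2
    have h5 : d 0 = 0 := by simpa [← two_mul, (by decide : (2 : ZMod 13) ≠ 0)] using z0 hx _ h1
    have h6 : d 1 = 0 := by simpa [← two_mul, (by decide : (2 : ZMod 13) ≠ 0)] using z0 (o xy) _ h2
    have h7 := z0 (o xw) (d 2) (by simpa [hφ, h5, h6] using e)
    exact add_eq_left.2 (funext fun k => by fin_cases k <;> assumption)
  have mem : ∀ v, φ v ∈ P := fun v => hφ v ▸ mul_mem (mul_mem (pow_mem xP _) (pow_mem yP _)) (pow_mem wP _)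
  have sur : ∀ s ∈ P, ∃ v, φ v = s := fun s hs => by
    obtain ⟨_, h3, _, h4, _, h5, rfl⟩ := all s hs
    obtain ⟨a, rfl⟩ := mem_powers_iff_mem_zpowers.2 h3
    obtain ⟨b, rfl⟩ := mem_powers_iff_mem_zpowers.2 h4
    obtain ⟨c, rfl⟩ := mem_powers_iff_mem_zpowers.2 h5
    refine ⟨![c, a, b], ?_⟩
    rw [hφ, mul_assoc, ((c1.pow_pow ..).mul_right (c2.pow_pow ..)).eq]
    exact congrArg₂ _ (congrArg₂ _ ((pw (o xy)).2 (by simp)) ((pw (o xw)).2 (by simp))) ((pw hx).2 (by simp))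
  have ex : ∀ g ∈ normalizer (P : Set G), ∃ A : Matrix (Fin 3) (Fin 3) (ZMod 13), ∀ v, g * φ v * g⁻¹ = φ (A *ᵥ v) :=
    fun g hg => by
      choose f hf using fun v => sur _ ((hg _).1 (mem v))
      exact ⟨LinearMap.toMatrix' ((AddMonoidHom.mk' f fun u v => inj (by
        rw [add, hf, hf, hf, add, conj_mul])).toZModLinearMap 13), fun v => by rw [LinearMap.toMatrix'_mulVec, ← hf]; rfl⟩
  have ml : ∀ {g k} {A B : Matrix (Fin 3) (Fin 3) (ZMod 13)}, (∀ v, g * φ v * g⁻¹ = φ (A *ᵥ v)) →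
      (∀ v, k * φ v * k⁻¹ = φ (B *ᵥ v)) → ∀ v, g * k * φ v * (g * k)⁻¹ = φ ((A * B) *ᵥ v) := fun a b v => by
    rw [← mulVec_mulVec, ← a, ← b]; group
  have un : ∀ {g k} {A B : Matrix (Fin 3) (Fin 3) (ZMod 13)}, (∀ v, g * φ v * g⁻¹ = φ (A *ᵥ v)) →
      (∀ v, k * φ v * k⁻¹ = φ (B *ᵥ v)) → g = k → A = B := fun a b e =>
    ext_iff_mulVec.2 fun v => inj ((a v).symm.trans (e ▸ b v))
  have e0 : ∀ {g} {A : Matrix (Fin 3) (Fin 3) (ZMod 13)}, (∀ v, g * φ v * g⁻¹ = φ (A *ᵥ v)) → Commute g x → A 0 0 = 1 :=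
    fun a b => by
      have : φ ![1, 0, 0] = x := by simp [hφ, ZMod.val_one]
      simpa [mulVec, dotProduct, Fin.sum_univ_three] using! congrFun (inj ((a ![1, 0, 0]).symm.trans (by
        rw [this, mul_inv_eq_iff_eq_mul.2 b]))) 0
  obtain ⟨I, hI⟩ := ex i iN
  obtain ⟨J, hJ⟩ := ex j jN
  obtain ⟨R, hR⟩ := ex n nN
  obtain ⟨H, hH⟩ := ex g gN
  refine ab13 (W := fun A => ∃ g ∈ normalizer (P : Set G), ∀ v, g * φ v * g⁻¹ = φ (A *ᵥ v))
    (fun ⟨_, a, b⟩ ⟨_, c, d⟩ => ⟨_, mul_mem a c, ml b d⟩) (fun {A} ⟨k, a, b⟩ => ⟨P.relIndex (normalizer P), fun e => h4 ?_, ?_⟩)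
    rfl rfl ⟨t, tN, hT⟩ ⟨i, iN, hI⟩ ⟨j, jN, hJ⟩ ⟨n, nN, hR⟩ ⟨g, gN, hH⟩ (e0 hI ix) (e0 hJ jx) (un (ml hI hI) hZ ii)
    (un (ml hJ hJ) hZ jj) (un (ml (ml hI hJ) (ml hI hJ)) hZ ij) (un (ml hR hZ) (ml hZ hR) nz)
    (ni.imp (un (ml hR hI) (ml hJ hR)) (un (ml hR hI) (ml (ml hJ hZ) hR)))
    (nj.imp (un (ml hR hJ) (ml (ml hI hJ) hR)) (un (ml hR hJ) (ml (ml (ml hI hJ) hZ) hR)))
    (ti.imp (un (ml hT hI) (ml hI hT)) (un (ml hT hI) (ml (ml hI hZ) hT)))
    (tj.imp (un (ml hT hJ) (ml hJ hT)) (un (ml hT hJ) (ml (ml hJ hZ) hT))) (un (ml hH hZ) (ml hT hH) gz)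
  · refine .trans ?_ (normalizer (P : Set G)).card_subgroup_dvd_card
    rw [← relIndex_bot_left, ← relIndex_mul_relIndex ⊥ P _ bot_le le_normalizer, relIndex_bot_left,
      ← Nat.card_congr (Equiv.ofBijective (fun v => (⟨_, mem v⟩ : P)) ⟨fun _ _ e => inj (congrArg Subtype.val e),
        fun s => (sur s s.2).imp fun _ => Subtype.ext⟩), Nat.card_fun, Nat.card_zmod, Nat.card_fin, pow_succ]
    exact mul_dvd_mul_left _ e
  · obtain ⟨s, hs⟩ := sur _ ((P.subgroupOf (normalizer P)).pow_index_mem ⟨k, a⟩)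
    have : ∀ m v, k ^ m * φ v * (k ^ m)⁻¹ = φ (A ^ m *ᵥ v) := fun m => by
      induction m with
      | zero => simp
      | succ m ih => exact pow_succ k m ▸ pow_succ A m ▸ ml ih b
    exact un (this _) (fun v => by rw [← add, add_comm, add]; simp) hs.symm

theorem mod13 : ∃ (G : Type) (_ : Group G) (_ : Finite G) (u : V2 13 → ZMod 13 → G),
    Hs u ∧ ¬ 13 ^ 4 ∣ Nat.card G ∧ Three (Fz u) := by
  obtain ⟨G, _, _, x, z, i, j, r, t, h2, h4, hc, hz, hx, zx, iso, cj, ix, jx, rx, rz, ii, jj, ij, ri, rj, tt, tx, tz,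
    ti, tj⟩ := mon13
  have zz : z * z = 1 := by rw [← sq, ← hz, pow_orderOf_eq_one]
  have mc : ∀ {s}, s ∈ centralizer ({x} : Set G) ↔ Commute s x := mem_centralizer_singleton_iff
  have z1 : z ≠ 1 := fun e => by simp [e] at hz
  obtain ⟨K, hK⟩ : ∃ K, K = (pPrimeCore 2 (centralizer ({x} : Set G))).map (centralizer {x}).subtype := ⟨_, rfl⟩
  have k0 : ∀ s ∈ K, Commute x s := fun s hs => (mc.1 (map_subtype_le _ (hK ▸ hs))).symm
  have k1 : (Nat.card K).Coprime 2 := hK ▸ Grp.map_pPrimeCore_coprime ..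
  have k2 : t ∈ normalizer (K : Set G) := hK ▸ FGS.normalizer_le_normalizer_map_subtype _ _
    (mem_normalizer_fintype fun c k => mc.2 (Commute.inv_right_iff.1 (tx ▸ (mc.1 k).map (MulAut.conj t))))
  have k2' : ∀ {s}, Commute s x → s ∈ normalizer (K : Set G) := fun e =>
    hK ▸ FGS.normalizer_le_normalizer_map_subtype _ _ (le_normalizer (mc.2 e))
  have k3 : ∀ {s} {k : ℕ}, Commute s x → s ^ 13 ^ k = 1 → s ∈ K := fun {s k} a b => by
    let x' : centralizer ({x} : Set G) := ⟨x, mc.2 (.refl x)⟩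
    let z' : centralizer ({x} : Set G) := ⟨z, mc.2 zx⟩
    refine hK ▸ ⟨⟨s, mc.2 a⟩, mem_core (p := 13) (x := x') (z := z') (by decide) (by rwa [← orderOf_coe])
      (fun g => Subtype.ext (mc.1 g.2).symm.eq) ⟨by rwa [← orderOf_coe], fun g e => Subtype.ext ((iso _ (by
        simp [z', zz]) (mc.1 (g * z' * g⁻¹).2) (congrArg Subtype.val e.symm.eq)).resolve_left (by simpa [z'] using z1))⟩
      (fun e => hc (e.trans ?_)) (Subtype.ext b), rfl⟩
    rw [← card_map_of_injective (subtype_injective _)]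
    refine card_dvd_of_le ?_
    rintro _ ⟨g, hg, rfl⟩
    exact mem_centralizer_singleton_iff.2 (congrArg Subtype.val (mem_centralizer_singleton_iff.1 hg))
  have ij' : i * j = z * (j * i) := by
    rw [← ij, show i * j * (i * j) * (j * i) = i * j * (i * (j * j) * i) by group, jj, ← ii, ← mul_assoc i i, mul_assoc _ i i,
      ii, zz, mul_one]
  have iz : Commute i z := ii ▸ (Commute.refl i).mul_right (.refl i)
  have jz : Commute j z := jj ▸ (Commute.refl j).mul_right (.refl j)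
  have hA : IsPGroup 2 (closure ({i, j, t} : Set G)) := by
    have k : ∀ {a b : G}, Commute b z → a * b = b * a ∨ a * b = b * z * a →
        a * b * a⁻¹ * b⁻¹ ∈ zpowers z ∧ b * a * b⁻¹ * a⁻¹ ∈ zpowers z := fun {a b} c e => by
      have : a * b * a⁻¹ * b⁻¹ ∈ zpowers z := by rcases e with e | e <;> simp [e, c.eq]
      exact ⟨this, by simpa [mul_assoc] using inv_mem this⟩
    have := k jz (.inr (ij'.trans (by rw [jz.eq, mul_assoc])))
    exact two_grp zz (by simp [iz, jz, tz]) (by simp [ii, jj, tt]) (by simp [this, k iz ti, k jz tj])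
  have hAK : closure ({i, j, t} : Set G) ≤ normalizer (K : Set G) := (closure_le _).2 (by
    rintro _ (rfl | rfl | rfl)
    exacts [k2' ix, k2' jx, k2])
  obtain ⟨m, hm⟩ := IsPGroup.iff_card.1 hA
  obtain ⟨S, hS⟩ := Solv.exists_invariant_sylow _ K hAK (hm ▸ k1.symm.pow_left m) (.inl (by
    have := hA.isNilpotent; infer_instance)) 13
  obtain ⟨P, hP⟩ : ∃ P, P = (S : Subgroup K).map K.subtype := ⟨_, rfl⟩
  rw [← hP] at hS
  have iN := hS (subset_closure (.inl rfl))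
  have jN := hS (subset_closure (.inr (.inl rfl)))
  have tN := hS (subset_closure (.inr (.inr rfl)))
  have zN : z ∈ normalizer (P : Set G) := ii ▸ mul_mem iN iN
  have pP : IsPGroup 13 P := hP ▸ S.2.map _
  have PK : P ≤ K := hP ▸ map_subtype_le _
  have k4 : ∀ {s} {k : ℕ}, s ∈ K → s ^ 13 ^ k = 1 → (∀ a ∈ P, Commute s a) → s ∈ P := fun {s k} a b c => by
    obtain ⟨l, -, e⟩ := (Nat.dvd_prime_pow Fact.out).1 (orderOf_dvd_of_pow_eq_one (x := (⟨s, a⟩ : K)) (Subtype.ext b))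
    exact hP ▸ ⟨⟨s, a⟩, (((IsPGroup.of_card ((Nat.card_zpowers _).trans e)).inf_normalizer_sylow S).le ⟨mem_zpowers _,
      centralizer_le_normalizer _ fun d k => Subtype.ext (c d (hP ▸ ⟨d, k, rfl⟩)).symm.eq⟩).2, rfl⟩
  have x1 : x ^ 13 ^ 1 = 1 := by rw [pow_one, ← hx, pow_orderOf_eq_one]
  have xP : x ∈ P := k4 (k3 (.refl x) x1) x1 fun a k => k0 a (PK k)
  obtain ⟨g, y, w, gz, hy, xw, yP, wP, all, zy, zw, ty, tw, yw⟩ := coord (by decide) pP hx xP (fun s k => k0 s (PK k))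
    zz tt tz zx tx hc (cj t tt tx) (cj _ (by rw [mul_assoc, ← mul_assoc t, tz.eq, mul_assoc, tt, mul_one, zz])
      (by rw [← tz.eq, ← tx, mul_assoc t, zx.eq]; group)) zN tN iN jN ix jx ij' fun e => by
        obtain ⟨s, k, a, b, c⟩ := exists_commute hx h2
        exact c (e (k4 (k3 a.symm b) b fun d k => (e k).elim fun l e => e ▸ a.symm.zpow_right l))
  have xy : IsConj x y := isConj_iff.2 ⟨g, hy.symm⟩
  have sub : closure ({i, j} : Set G) ≤ closure {i, j, t} := closure_mono (by simp [Set.insert_subset_iff])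
  obtain ⟨c, h5, h6⟩ := adj (sub.trans hAK) (hA.to_le sub) k1 S hP (sub.trans hS) (g := r)
    (fun s k => (mem_normalizer_iff''.1 (k2' rx) s).1 (PK k)) ((closure_le ((normalizer (P : Set G)).comap
      (MulAut.conj r).toMonoidHom)).2 (by
        rintro _ (rfl | rfl)
        · rcases ri with e | e <;> simp [e, mul_mem, jN, zN]
        · rcases rj with e | e <;> simp [e, mul_mem, iN, jN, zN]))
  have ci : i * c = c * i := h5 i (subset_closure (.inl rfl))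
  have cj : j * c = c * j := h5 j (subset_closure (.inr rfl))
  have ni : r * c * i = j * (r * c) ∨ r * c * i = j * z * (r * c) := by
    simpa only [mul_assoc r c, ← ci, ← mul_assoc, mul_left_inj] using ri
  have nj : r * c * j = i * j * (r * c) ∨ r * c * j = i * j * z * (r * c) := by
    simpa only [mul_assoc r c, ← cj, ← mul_assoc, mul_left_inj] using rj
  by_cases h1 : Commute y w
  · have sub : zpowers z ≤ closure {i, j, t} :=
      zpowers_le.2 (ii ▸ mul_mem (subset_closure (.inl rfl)) (subset_closure (.inl rfl)))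
    obtain ⟨d, h7, h8⟩ := adj (sub.trans hAK) (hA.to_le sub) k1 S hP (sub.trans hS) (g := g)
      (fun s k => (pP ⟨s, k⟩).elim fun l e => k3 (k := l) (by
        obtain ⟨_, ⟨a, rfl⟩, _, ⟨b, rfl⟩, _, ⟨c, rfl⟩, rfl⟩ := all s k
        simpa [hy, mul_assoc] using ((((Commute.refl y).zpow_left a).mul_left (h1.symm.zpow_left b)).mul_left
          ((k0 y (PK yP)).zpow_left c)).map (MulAut.conj g⁻¹))
        (by rw [← MulAut.conj_inv_apply, ← map_pow, show s ^ 13 ^ l = 1 from congrArg Subtype.val e, map_one]))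
      (by rintro _ ⟨l, rfl⟩; rw [← conj_zpow, gz]; exact zpow_mem tN l)
    exact (abel h4 hx xP xy xw yP wP all (k0 y (PK yP)) (k0 w (PK wP)) h1 zx zy zw tx ty tw ix jx tN iN jN h6 h8 ii jj ij
      (rz.mul_left (ii ▸ (Commute.symm ci).mul_right (Commute.symm ci))) ni nj ti tj
      (by rw [mul_assoc, ← h7 z (mem_zpowers z), ← gz]; group)).elim
  · obtain ⟨u, h7, h8⟩ := nonab hx (fun s k => k0 s (PK k)) xy xw yP wP all zy zw yw h1 iN jN h6 ii jj ij ni nj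
    exact ⟨G, _, ‹_›, u, h7, h4, h8⟩

end Cfsg.Agent.RV
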