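import Cfsg.Agent.RV.Defs
import Cfsg.Agent.Chev.Tits1

/-! The Sylow 3-subgroup of `²F₄(2)` and of the Tits group. -/

set_option autoImplicit false

namespace Cfsg.Agent.RV

open Matrix

namespace M3

open Cfsg.Agent.Comp Cfsg.Agent.Chev Cfsg.Agent.Chev.Tits Cfsg.Agent.Chev.TitsM

/-- The points moved by a word. -/
noncomputable def mvM (u : List ℕ) (k : ℕ) : ℕ :=
  Nat.rec (motive := fun _ => ℕ) 0
    (fun r ih => Nat.lor ih (Nat.xor (appW 1 ns u (idPlane 2048 11 r)) (idPlane 2048 11 r))) k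

theorem testBit_mvM (u : List ℕ) {i : ℕ} (hi : i < 2048) {k : ℕ} (hk : k ≤ 11) :
    (mvM u k).testBit i = false ↔ ∀ r < k, (wp ns u i).testBit r = i.testBit r := by
  induction k with
  | zero => simp [mvM]
  | succ k ih =>
    have e : mvM u (k + 1) = mvM u k ||| (appW 1 ns u (idPlane 2048 11 k) ^^^ idPlane 2048 11 k) := rfl
    rw [e, Nat.testBit_or, Bool.or_eq_false_iff, ih (by omega), Nat.testBit_xor,
      testBit_appW_one ctx.ok _ _ hi, testBit_idPlane (by norm_num) (by omega),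
      testBit_idPlane (by norm_num) (by omega), Nat.forall_lt_succ_right]
    simp [hi, (supp_wp ctx.ok u).lt hi]

/-- The points fixed by a word. -/
noncomputable def fxM (u : List ℕ) : ℕ := Nat.xor (mvM u 11) (ones 2048)

theorem mem_fxM {u : List ℕ} {i : ℕ} : i ∈ mset 1755 (fxM u) ↔ i < 1755 ∧ wp ns u i = i := by
  rw [mem_mset]
  refine and_congr_right fun h => ?_
  have hi : i < 2048 := by omega
  have e : (fxM u).testBit i = true ↔ (mvM u 11).testBit i = false := by
    change (mvM u 11 ^^^ ones 2048).testBit i = true ↔ _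
    simp [Nat.testBit_xor, testBit_ones, hi]
  rw [e, testBit_mvM u hi le_rfl]
  refine ⟨fun h1 => Nat.eq_of_testBit_eq fun r => ?_, fun h1 r _ => by rw [h1]⟩
  by_cases hr : r < 11
  · exact h1 r hr
  · have : 2 ^ 11 ≤ 2 ^ r := Nat.pow_le_pow_right (by norm_num) (by omega)
    rw [Nat.testBit_lt_two_pow (((supp_wp ctx.ok u).lt hi).trans_le this),
      Nat.testBit_lt_two_pow (hi.trans_le this)]

theorem mem_iff {g : G} : g ∈ commutator G ↔ phi g ∈ gen ns H_l0.ws := by
  rw [commutator_eq, Subgroup.mem_comap, H_eq]; rfl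

theorem exists_el (u : List ℕ) (h : wordIn H_l0.ws u = true) : ∃ g ∈ commutator G, phi g = wp ns u := by
  obtain ⟨g, hg⟩ := (H_le.trans range_phi.ge) (H_eq.ge (mem_of_wordIn (ns := ns) h))
  exact ⟨g, mem_iff.2 (hg ▸ mem_of_wordIn h), hg⟩

theorem mem_of_cube {s : G} (h : s ^ 3 = 1) : s ∈ commutator G := by
  have : s = (s * s) * (s * s) := (mul_one s).symm.trans (by rw [← h]; simp [pow_succ, mul_assoc])
  rw [this]
  exact Subgroup.mul_self_mem_of_index_two index_commutator _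

theorem lt_of_cube {s : G} (h : s ^ 3 = 1) {p : ℕ} (hp : p < 1755) : phi s p < 1755 :=
  Supp.lt (H_supp (H_eq.ge (mem_iff.1 (mem_of_cube h)))) hp

/-- Elements of order 3 fix no point. -/
theorem free {s : G} (h : s ^ 3 = 1) {p : ℕ} (hp : p < 1755) (e : phi s p = p) : s = 1 := by
  have hD : H_D0 = ones 1755 := (beq_iff _ _).1 (by decide +kernel)
  obtain ⟨k, hk, rfl⟩ := (H_st0.orb p).2 (by simp [hD, testBit_ones, hp]; omega)
  have h1 : k⁻¹ * phi s * k ∈ cgrp ns H_C1 :=
    H_st0.stab _ (mul_mem (mul_mem (inv_mem hk) (mem_iff.1 (mem_of_cube h))) hk) (by simp [e])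
  have h2 := orderOf_dvd_natCard (⟨_, h1⟩ : cgrp ns H_C1)
  have h3 : (k⁻¹ * phi s * k) ^ 3 = 1 := by
    rw [show k⁻¹ * phi s * k = k⁻¹ * phi s * k⁻¹⁻¹ by simp, conj_pow, ← map_pow, h]; simp
  rw [H_ver1.card, ← Subgroup.orderOf_coe] at h2
  have h4 := Nat.dvd_gcd h2 (orderOf_dvd_of_pow_eq_one h3)
  rw [show Nat.gcd 10240 3 = 1 by norm_num, Nat.dvd_one, orderOf_eq_one_iff] at h4
  refine phi_injective ?_
  rw [map_one, ← mul_left_inj k, ← mul_right_inj k⁻¹, ← mul_assoc]
  exact h4.trans (by simp)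

theorem phi_z : phi z = wp ns [32] := phi_el (by decide +kernel) (by decide +kernel)

theorem phi_v : phi v = wp ns [26, 26] := phi_el (by decide +kernel) (by decide +kernel)

theorem mem_fx {t s : G} {w : List ℕ} (ht : phi t = wp ns w) (h : s ^ 3 = 1) (c : Commute t s) {p : ℕ}
    (hp : p ∈ mset 1755 (fxM w)) : phi s p ∈ mset 1755 (fxM w) := by
  rw [mem_fxM, ← ht] at hp ⊢
  exact ⟨lt_of_cube h hp.1, by rw [← Equiv.Perm.mul_apply, ← map_mul, c.eq, map_mul,
    Equiv.Perm.mul_apply, hp.2]⟩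

theorem not_z {s : G} (h : s ^ 3 = 1) (c : Commute z s) : s = 1 := by
  have : Fact (Nat.Prime 3) := ⟨Nat.prime_three⟩
  have hc : (mset 1755 (fxM [32])).card = 91 :=
    (pcN_eq (w := 11) (by norm_num) _).symm.trans ((beq_iff _ _).1 (by decide +kernel))
  have h1 : ∀ p, phi s p ∈ mset 1755 (fxM [32]) ↔ p ∈ mset 1755 (fxM [32]) := fun p =>
    ⟨fun hp => by
      have := mem_fx phi_z h c (mem_fx phi_z h c hp)
      rwa [← Equiv.Perm.mul_apply, ← Equiv.Perm.mul_apply, ← map_mul, ← map_mul, ← pow_three', h, map_one,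
        Equiv.Perm.one_apply] at this, mem_fx phi_z h c⟩
  obtain ⟨a, ha⟩ := Equiv.Perm.exists_fixed_point_of_prime (p := 3) (n := 1)
    (σ := (phi s).subtypePerm h1) (by rw [Fintype.card_coe, hc]; norm_num)
    (by rw [pow_one, Equiv.Perm.subtypePerm_pow]; ext a; simp [← map_pow, h])
  exact free h (mem_fxM.1 a.2).1 (congrArg Subtype.val ha)

theorem not_v {s : G} (h : s ^ 3 = 1) (c : Commute v s) : phi s 0 ≠ 31 := fun e => by
  obtain ⟨w, hw, ew⟩ := exists_el [8] (by decide +kernel)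
  have e0 : phi w 0 = 31 := by rw [ew]; exact wp_apply_of_mapsW ctx.ok (by norm_num) (by decide +kernel)
  have e1 : phi w 1 = 316 := by rw [ew]; exact wp_apply_of_mapsW ctx.ok (by norm_num) (by decide +kernel)
  have h1 : phi (s⁻¹ * w) ∈ cgrp ns H_C1 :=
    H_st0.stab _ (mem_iff.1 (mul_mem (inv_mem (mem_of_cube h)) hw)) (by
      change phi (s⁻¹ * w) 0 = 0
      rw [map_mul, Equiv.Perm.mul_apply, e0, ← e]; simp)
  have h2 := mem_mset.1 ((H_st1.orb _).1 ⟨_, h1, rfl⟩)
  have h3 : Nat.land H_D1 (Nat.land (ones 1755) (fxM [26, 26])) = H_D1 :=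
    (beq_iff _ _).1 (by decide +kernel)
  have h4 := congrArg (·.testBit (phi (s⁻¹ * w) H_l1.b)) h3
  change (H_D1 &&& (ones 1755 &&& fxM [26, 26])).testBit _ = H_D1.testBit _ at h4
  simp only [Nat.testBit_and, h2.2, testBit_ones, Bool.true_and, Bool.and_eq_true, decide_eq_true_eq] at h4
  have h5 := mem_fx phi_v h c (mem_mset.2 h4)
  rw [← Equiv.Perm.mul_apply, ← map_mul, mul_inv_cancel_left, show H_l1.b = 1 from rfl, e1] at h5
  exact ne_of_movesW ctx (by decide +kernel) (by norm_num) (mem_fxM.1 h5).2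

theorem no_inv {u : (Fin 2 → ZMod 3) → ZMod 3 → G} (hu : Hs u) {t : G} (ht : orderOf t = 2)
    (hc : ∀ a c, Commute t (u a c)) : False := by
  obtain ⟨g, e⟩ := exists_conj ht
  have h1 := hu.map (MulAut.conj g).toMonoidHom (MulAut.conj g).injective
  have h2 : ∀ a c, Commute (g * t * g⁻¹) ((MulAut.conj g).toMonoidHom (u a c)) := fun a c =>
    (hc a c).map (MulAut.conj g)
  generalize g * t * g⁻¹ = t' at e h2
  set u' := fun a c => (MulAut.conj g).toMonoidHom (u a c)
  have h3 : ∀ a c, u' a c ^ 3 = 1 := fun a c => by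
    rw [h1.pow, ← h1.zero, show ((3 : ℕ) : ZMod 3) = 0 from rfl, zero_smul, zero_mul]
  rcases e with rfl | rfl
  · exact absurd (h1.inj _ _ (not_z (h3 0 1) (h2 0 1))).2 (by decide)
  · have hc : (mset 1755 (fxM [26, 26])).card = 27 :=
      (pcN_eq (w := 11) (by norm_num) _).symm.trans ((beq_iff _ _).1 (by decide +kernel))
    have h0 : ∀ i, tb (fxM [26, 26]) i = true → i < 1755 → i ∈ mset 1755 (fxM [26, 26]) :=
      fun i h h' => mem_mset.2 ⟨h', tb_eq _ _ ▸ h⟩
    let f : (Fin 2 → ZMod 3) × ZMod 3 → mset 1755 (fxM [26, 26]) := fun a =>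
      ⟨phi (u' a.1 a.2) 0, mem_fx phi_v (h3 _ _) (h2 _ _) (h0 0 (by decide +kernel) (by norm_num))⟩
    have hf : Function.Injective f := fun a b e => by
      have e1 : phi (u' a.1 a.2) 0 = phi (u' b.1 b.2) 0 := congrArg Subtype.val e
      have e2 : (u' a.1 a.2)⁻¹ * u' b.1 b.2 = 1 :=
        free (by rw [h1.inv, h1.mul]; exact h3 _ _) (p := 0) (by norm_num)
          (by rw [map_mul, Equiv.Perm.mul_apply, ← e1]; simp)
      exact Prod.ext_iff.2 (h1.eq_iff.1 (inv_mul_eq_one.1 e2))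
    obtain ⟨a, ha⟩ := ((Fintype.bijective_iff_injective_and_card f).2 ⟨hf, by rw [Fintype.card_coe, hc]; simp⟩).2
      ⟨31, h0 31 (by decide +kernel) (by norm_num)⟩
    exact not_v (h3 _ _) (h2 _ _) (congrArg Subtype.val ha)

theorem exists_inv {X : Type*} [Group X] [Finite X] {N : Subgroup X} (hN : N.index = 2) {g : X}
    (hg : g ∉ N) : ∃ t, orderOf t = 2 ∧ ∀ s, Commute g s → Commute t s := by
  obtain ⟨k, hk | hk⟩ := Nat.even_or_odd' (orderOf g)
  · exact ⟨g ^ (orderOf g / 2), orderOf_pow_orderOf_div (orderOf_pos g).ne' ⟨k, hk⟩,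
      fun _ h => h.pow_left _⟩
  · have : g = (g * g) ^ (k + 1) := by
      rw [← pow_two, ← pow_mul, show 2 * (k + 1) = orderOf g + 1 by omega, pow_succ, pow_orderOf_eq_one,
        one_mul]
    exact absurd (this ▸ pow_mem (Subgroup.mul_self_mem_of_index_two hN _) _) hg

theorem cent {u : (Fin 2 → ZMod 3) → ZMod 3 → G} (hu : Hs u) (g : G) (hc : ∀ a c, Commute g (u a c)) :
    g ∈ commutator G := by
  have : Finite G := Nat.finite_of_card_ne_zero (by rw [card]; norm_num)
  by_contra hg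
  obtain ⟨t, h1, h2⟩ := exists_inv index_commutator hg
  exact no_inv hu h1 fun a c => h2 _ (hc a c)

end M3

open Cfsg.Agent.Comp Cfsg.Agent.Chev Cfsg.Agent.Chev.Tits Cfsg.Agent.Chev.TitsM M3 in
/-- `G = ²F₄(2)` in its permutation model on 1755 points, `N` the Tits group. -/
theorem mod3 : ∃ (G : Type) (_ : Group G) (_ : Finite G) (N : Subgroup G)
    (u : (Fin 2 → ZMod 3) → ZMod 3 → G), Hs u ∧ ¬ 3 ^ 4 ∣ Nat.card G ∧ N.index = 2 ∧
      (∀ g, (∀ v c, Commute g (u v c)) → g ∈ N) ∧ Fz u ![1, 0] ∧ ∃ g ∉ N, Nrm u g !![0, 1; 1, 1] := by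
  have h2 : (2 : ZMod 3) ≠ 0 := by decide
  have h0 : (0 : Fin 2 → ZMod 3) = ![((0 : ℕ) : ZMod 3), ((0 : ℕ) : ZMod 3)] := by decide
  have : Fact (Nat.Prime 3) := ⟨Nat.prime_three⟩
  obtain ⟨a, -, ha⟩ := exists_el [24, 19, 12, 8, 8, 16, 22, 20] (by decide +kernel)
  obtain ⟨b, -, hb⟩ := exists_el [22, 8, 17, 9, 12, 15, 16, 29] (by decide +kernel)
  obtain ⟨c, -, hc⟩ := exists_el [9, 9, 26, 8, 8, 15, 18, 21] (by decide +kernel)
  obtain ⟨k, hk', hk⟩ := exists_el [8, 14, 9, 9, 12, 15, 28] (by decide +kernel)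
  obtain ⟨f, -, hf⟩ := exists_el [18, 8, 15, 12, 22, 29, 32] (by decide +kernel)
  have hy : phi y = wp ns [4] := phi_el (by decide +kernel) act2
  have cube : ∀ {s : G} {w : List ℕ}, phi s = wp ns w → eqW 2048 11 ns (powW w 3) [] = true → s ^ 3 = 1 :=
    fun e h => phi_injective (by rw [map_pow, e, pow_eq_one_of_eqW ctx h, map_one])
  obtain ⟨u, hu, e⟩ := exists_hs (p := 3) (x := a) (y := b) (z := c) h2
    (cube ha (by decide +kernel)) (cube hb (by decide +kernel)) (cube hc (by decide +kernel))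
    (fun h => ne_of_movesW ctx (u := [9, 9, 26, 8, 8, 15, 18, 21]) (p := 0) (by decide +kernel) (by norm_num) (by rw [← hc, h]; simp))
    (phi_injective (by
      simp only [map_mul, ha, hc, ← wp_append]; exact wp_eq_of_eqW ctx (by decide +kernel)))
    (phi_injective (by
      simp only [map_mul, hb, hc, ← wp_append]; exact wp_eq_of_eqW ctx (by decide +kernel)))
    (phi_injective (by
      simp only [map_mul, ha, hb, hc, ← wp_append]; exact wp_eq_of_eqW ctx (by decide +kernel)))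
  have ea : u ![1, 0] 0 = a := by simpa using e 1 0 0
  have eb : u ![0, 1] 0 = b := by simpa using e 0 1 0
  have ec : u 0 2 = c := by
    have := e 0 0 1
    rw [h0]
    simpa using this
  have ed : u ![1, 1] 1 = a * b := by simpa using e 1 1 0
  refine ⟨G, inferInstance, Nat.finite_of_card_ne_zero (by rw [card]; norm_num), commutator G, u, hu,
    by rw [card]; norm_num, index_commutator, cent hu, ⟨0, 2, ?_⟩, y * k, fun h => y_not_mem ?_,
    hu.nrm (d₀ := 0) (d₁ := 1) h2 ?_ ?_⟩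
  · rw [ea, ec]
    refine isConj_iff.2 ⟨f, phi_injective ?_⟩
    simp only [map_mul, map_inv, ha, hc, hf, ← wp_invW, ← wp_append]
    exact wp_eq_of_eqW ctx (by decide +kernel)
  · simpa using mul_mem h (inv_mem hk')
  · rw [ea]
    refine (phi_injective ?_).trans eb.symm
    simp only [map_mul, map_inv, ha, hb, hk, hy, ← wp_invW, ← wp_append]
    exact wp_eq_of_eqW ctx (by decide +kernel)
  · rw [eb]
    refine (phi_injective ?_).trans ed.symm
    simp only [map_mul, map_inv, ha, hb, hk, hy, ← wp_invW, ← wp_append]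
    exact wp_eq_of_eqW ctx (by decide +kernel)

end Cfsg.Agent.RV
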