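import Cfsg.Agent.Mont.Cent

/-! The subgroup `Q₈ : 3` and an element of order 13 with an inverting element in `Co0`, as matrices. -/

set_option autoImplicit false

namespace Cfsg.Agent.RV.M13

open Cfsg Cfsg.Spor Cfsg.Agent.Spor Cfsg.Agent.Spor.Leech Cfsg.Agent.Comp Cfsg.Agent.Mont

noncomputable def MX : List (List ℤ) :=
  [[0, -1, -1, -1, -1, -1, -1, -1, -1, -1, 0, 1, 2, 3, 2, 2, 2, 2, 3, 3, 3, 2, 2, -12],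
  [0, 0, 0, 0, 0, 0, 0, 0, 1, 0, 2, -1, -1, 0, -1, -1, -1, 0, 0, 0, -1, -1, 0, 2],
  [0, 0, 0, -1, -1, 0, 0, 0, 0, -1, 0, 0, 1, 1, 0, 0, 1, 1, 1, 2, 1, 1, 1, -5],
  [0, -1, 0, -1, 0, 0, -1, 0, 0, -1, 0, 0, 1, 1, 1, 1, 1, 1, 1, 2, 1, 2, 2, -7],
  [0, 0, 0, -1, -1, 0, 0, -1, 0, -1, 0, 0, 1, 1, 1, 1, 1, 2, 1, 2, 2, 1, 1, -7],
  [1, 0, 0, 0, 0, 1, 0, 1, 0, -1, 0, -1, -1, 0, -1, 0, 0, -1, -1, 0, 0, 0, 0, 1],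
  [0, 0, -1, -1, 0, 0, -1, 1, 0, -1, 1, 0, 0, 1, 0, 0, 0, 0, 1, 1, 0, 1, 2, -3],
  [0, 0, -1, 0, 0, 0, 0, 0, 1, -1, 0, 0, 0, 0, 0, 0, 0, 0, 0, 0, 1, 0, 1, -1],
  [0, 1, 1, 0, 0, 0, 0, 1, 1, -1, 1, -1, -2, -1, -1, -2, -1, 0, -1, -1, -1, 0, 0, 4],
  [1, 0, 0, 0, 0, 0, 0, 0, 1, -1, 1, -1, -1, 0, 0, -1, -1, 0, -1, 0, 0, 0, 0, 1],
  [0, 0, -1, 0, -1, 0, 0, 0, 0, -1, 1, 0, 0, 1, 0, 0, 0, 1, 1, 1, 1, 0, 1, -3],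
  [0, 0, 1, 1, 0, 0, 0, 1, 1, 0, 1, -1, -2, -1, -1, -2, -1, -1, -2, -1, -1, -1, -1, 6],
  [0, -1, -1, -1, -1, 0, 0, -1, -1, -1, 0, 1, 2, 2, 1, 2, 2, 2, 2, 3, 2, 1, 2, -10],
  [0, 0, 0, -1, -1, 1, 0, 0, -1, -1, 0, 0, 1, 1, 0, 1, 2, 1, 1, 2, 1, 1, 1, -6],
  [0, -1, -2, -1, -1, 0, 0, 0, -1, -1, 0, 1, 2, 3, 1, 2, 2, 1, 2, 2, 2, 1, 2, -9],
  [0, 0, -1, -1, -1, 0, -1, 0, 0, -1, 0, 1, 1, 1, 1, 1, 1, 1, 2, 2, 1, 1, 2, -6],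
  [0, 0, -1, -1, -2, -1, -1, -1, -1, -1, 0, 1, 2, 3, 2, 2, 2, 3, 3, 3, 3, 2, 2, -12],
  [1, -1, -1, -1, -1, 0, -1, -1, -1, -1, -1, 1, 2, 2, 2, 3, 2, 1, 2, 3, 3, 2, 2, -11],
  [0, 0, -1, -1, -1, 0, -1, 0, -1, -1, -1, 1, 2, 2, 1, 2, 2, 1, 2, 2, 2, 2, 2, -9],
  [0, 0, -1, -1, 0, 0, 0, 0, 0, -1, 0, 0, 1, 1, 1, 1, 1, 1, 1, 1, 1, 1, 2, -6],
  [0, 0, -1, -1, -1, 0, 0, -1, -1, -2, -1, 1, 2, 2, 2, 2, 2, 2, 2, 3, 3, 2, 2, -11],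
  [0, -1, -1, -1, -1, 0, -1, 0, -1, -2, 0, 1, 2, 2, 2, 2, 2, 2, 2, 3, 2, 2, 3, -11],
  [0, -1, -1, -2, -1, 0, -1, -1, -1, -1, 0, 1, 3, 3, 2, 2, 2, 2, 3, 4, 2, 2, 3, -13],
  [0, -1, -2, -2, -2, 0, -1, -1, -2, -2, -1, 2, 4, 4, 3, 4, 4, 3, 4, 5, 4, 3, 4, -19]]

noncomputable def WX : List (List ℤ) :=
  [[-1, -1, -1, -1, -1, -1, -2, -1, 0, -1, -1, 0, -2, -1, -2, -2, -1, -2, -1, -2, -1, -2, -2, -3],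
  [-1, 0, 0, 0, 0, 0, 0, 0, 2, 0, 1, 0, -1, 0, -1, 0, 0, -1, 0, 0, 0, 0, -1, -1],
  [-1, 0, 0, 0, -1, -1, 0, 0, 1, -1, -1, 0, -1, -1, -2, -1, -1, -2, 0, 0, -1, -1, -1, -2],
  [-1, -1, 0, 0, 0, 0, -1, 0, 1, 0, 0, 0, -1, -1, -2, -1, -1, -1, -1, -1, 0, 0, -1, -2],
  [-1, 0, 0, -1, -1, 0, 0, 0, 1, 0, 0, 0, -2, -1, -1, 0, -1, -1, -1, -1, 0, -1, -1, -2],
  [-1, -1, 0, -1, -1, 0, -1, 0, 0, -2, -1, -1, -1, 0, -1, 0, -1, -1, 0, -1, 0, -1, -1, -1],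
  [-1, 0, -1, -1, -1, -1, -1, 0, 0, -1, 0, 0, -1, -1, -1, -1, -1, -2, -1, -1, -1, -1, -1, -2],
  [-2, -1, -1, -1, -1, -1, -1, -1, 1, -1, -1, 0, -2, -1, -2, -1, -1, -2, -1, -1, 0, -1, -1, -2],
  [-1, 0, 1, 0, -1, 0, 0, 0, 1, -1, 0, 0, -1, 0, -1, 0, -1, -1, 0, -1, 0, 0, 0, -1],
  [-1, -1, -1, -1, -1, 0, -1, -1, 0, -1, 0, -1, -1, 0, 0, -1, -1, -1, -1, -1, 0, 0, -1, -1],
  [-1, -1, -1, 0, -2, 0, 0, 0, 0, -1, -1, 0, -2, -1, -1, -1, -2, -1, 0, -1, -1, -1, -1, -2],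
  [-2, -1, 0, 0, 0, 0, -1, 0, 1, 0, 0, 0, -1, 0, -1, -1, -1, -1, -1, 0, 1, 0, -1, -1],
  [0, 0, -1, 0, -1, -1, 0, 0, 0, 0, -1, 1, -2, -2, -2, -1, -1, -1, -1, -1, -2, -2, -1, -3],
  [1, 1, 1, 0, 0, 1, 1, 1, 1, 0, 1, 0, 0, 0, 0, 1, 1, 0, 1, 0, 0, 0, 0, 0],
  [0, 0, -1, -1, -1, 0, 0, 0, 0, -1, 0, 0, -1, 0, 0, 0, 0, -1, 0, -1, -1, -1, -1, -1],
  [1, 1, 0, 0, -1, 0, 1, 1, 1, 0, 0, 1, -1, -1, 0, 0, 0, -1, 1, 0, -1, -1, 0, -1],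
  [1, 1, 0, 0, -1, 0, 0, 0, 0, 0, 0, 0, -1, 0, 0, 0, 0, 0, 0, -1, -1, -1, 0, -1],
  [1, 0, 0, -1, -1, 0, 0, 0, 0, 0, 0, 0, -1, -1, 0, 0, 0, -1, 0, -1, 0, -1, 0, -1],
  [0, 1, 0, 0, -1, -1, -1, 0, 0, -1, -1, 1, -1, -1, -2, -1, -1, -2, -1, -2, -2, -2, -1, -3],
  [1, 2, 0, 0, 0, 0, 1, 1, 1, 1, 1, 1, -1, -1, 0, 0, 0, -1, -1, -1, -1, -1, 0, -2],
  [0, 1, 0, 0, -1, 0, 1, 0, 0, -1, -1, 0, -1, 0, 0, 0, -1, -1, 0, 0, -1, -1, 0, -1],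
  [1, 0, 0, 0, -1, 0, 0, 1, -1, -1, 0, 0, 0, -1, 0, 0, -1, 0, 0, -1, -1, -1, 0, -1],
  [1, 1, 0, 0, 0, 0, 0, 0, 0, 0, 0, 0, 0, 0, 0, -1, 0, -1, 0, 0, -1, -1, 0, -1],
  [2, 2, 0, 0, -1, 0, 1, 1, 0, 0, 0, 1, -1, -1, 0, 0, 0, -1, 0, -1, -2, -2, 0, -2]]

theorem isoX : chkIso MX WX = true := by decide +kernel

noncomputable def MI : List (List ℤ) :=
  [[0, 0, 0, -1, 1, 0, 0, 0, 0, 0, 1, 0, 0, 0, -1, -1, -1, 0, 1, 0, -1, 0, 0, 1],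
  [0, 0, -1, -1, 1, -1, 0, 0, -1, -1, -1, 1, 1, 1, 1, 1, 1, 1, 2, 1, 2, 2, 1, -6],
  [-1, -1, -1, -1, 0, -1, -1, -1, -1, -1, -1, 2, 3, 2, 3, 2, 2, 2, 3, 3, 3, 3, 2, -12],
  [0, 0, -1, 0, 1, -1, 0, 0, 0, 0, 1, 0, 0, 0, 0, 0, -1, 0, 1, 0, 0, 0, 0, 0],
  [-1, -1, -2, -1, 0, -1, -2, -1, -1, -1, -1, 2, 3, 2, 3, 3, 2, 2, 4, 3, 3, 3, 3, -13],
  [0, 0, -1, 0, 0, -1, -1, -1, 0, 0, 0, 1, 1, 1, 1, 1, 0, 1, 2, 1, 1, 1, 0, -4],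
  [0, -1, -1, -1, 0, -1, 0, -1, 0, -1, 0, 1, 2, 2, 2, 1, 1, 2, 2, 2, 2, 1, 1, -8],
  [0, 0, -1, -1, 0, -1, 0, 0, 0, 0, 0, 1, 1, 1, 0, 0, 0, 1, 1, 0, 1, 1, 0, -2],
  [-1, -1, -2, -1, -1, -2, -1, -2, -1, -2, -1, 3, 4, 3, 4, 3, 3, 4, 4, 4, 5, 3, 3, -17],
  [0, 0, -2, -1, 0, 0, 0, -1, 0, 0, 0, 1, 2, 1, 0, 1, 0, 1, 2, 1, 1, 0, 1, -4],
  [-1, 0, -1, -2, 0, -1, -1, -2, -1, -1, -1, 2, 3, 2, 3, 2, 2, 3, 4, 3, 3, 3, 2, -13],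
  [-1, 0, -1, 0, 0, -1, 1, 0, -1, 0, 0, 1, 1, 1, 0, 0, 1, 1, 1, 0, 1, 0, 0, -2],
  [0, 0, 0, -1, 1, 0, -1, 0, 0, -1, 0, 0, 0, 0, 1, 0, 0, 0, 1, 1, 0, 2, 1, -3],
  [0, -1, -1, 0, 0, -1, -2, -1, -1, -1, -1, 1, 2, 2, 3, 3, 2, 1, 3, 3, 3, 3, 2, -12],
  [1, 0, 0, -1, 0, 0, -1, 0, 0, 0, 0, 0, 0, 1, 0, 0, 0, 0, 1, 1, 0, 1, 0, -2],
  [-1, -2, -1, -2, -1, -2, -2, -2, -1, -2, -2, 3, 5, 4, 6, 4, 4, 4, 5, 5, 5, 5, 4, -22],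
  [-1, -1, -1, -2, -1, -1, -2, -2, -1, -2, -1, 2, 4, 3, 4, 3, 3, 4, 5, 5, 4, 4, 4, -19],
  [0, -1, -1, -1, 0, -1, -2, -1, 0, 0, 0, 1, 2, 2, 2, 2, 0, 1, 3, 2, 1, 2, 2, -8],
  [0, -1, 0, -1, -1, -1, -1, -1, 0, -1, 0, 1, 2, 2, 2, 1, 1, 2, 2, 3, 2, 2, 1, -9],
  [0, -2, -2, -2, -1, -1, -2, -1, -1, -2, -1, 2, 4, 4, 4, 4, 3, 3, 4, 5, 4, 4, 4, -19],
  [0, -1, -1, -1, -1, 0, -2, -2, -1, -1, -1, 2, 3, 2, 3, 3, 2, 2, 3, 4, 3, 3, 2, -13],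
  [0, -1, -1, -1, 0, -1, -1, -2, 0, -1, 0, 1, 2, 2, 3, 2, 1, 2, 3, 3, 2, 2, 2, -11],
  [0, -1, -1, -1, 0, 0, -1, -1, -1, -1, 0, 1, 2, 2, 2, 2, 1, 1, 3, 3, 2, 2, 2, -10],
  [0, -2, -1, -2, -1, -1, -3, -2, -1, -2, -1, 2, 4, 4, 5, 4, 3, 3, 5, 6, 4, 5, 4, -21]]

noncomputable def WI : List (List ℤ) :=
  [[0, -1, 0, 0, 1, 0, -1, 0, 0, -1, 0, 0, 1, 0, -1, -1, 0, 0, 1, 0, 0, 0, -1, 0],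
  [1, 0, 0, 0, 2, 0, 0, 1, 0, 0, 0, 0, 1, 0, 0, 0, 1, 1, 1, 1, 1, 0, 0, 1],
  [0, 0, 0, 1, 2, 1, 0, 1, 1, 1, 1, 1, 1, 0, 0, -1, 0, 0, 0, 1, 1, 1, -1, 0],
  [0, 0, -1, 0, 1, -1, 0, 1, 0, 0, 1, 0, 1, -1, 0, 0, 0, 0, 0, 1, 0, 0, -1, 0],
  [-1, -2, -2, -1, 0, -1, -2, -1, -1, -1, -1, -1, 0, -1, -1, -1, 0, 0, 0, 0, 0, 0, -1, 0],
  [0, 0, -1, 1, 1, 0, -1, 0, 1, 0, 0, 1, 0, 0, -1, -1, 0, 0, 0, 0, -1, 0, -2, -1],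
  [1, 0, 0, 0, 2, 1, 0, 1, 1, 0, 1, 0, 1, 1, 1, 0, 1, 1, 1, 1, 1, 0, -1, 1],
  [0, -1, -1, -1, 1, 0, -1, 0, 0, 0, 1, 0, 1, 0, 0, 0, 1, 1, 0, 0, 1, 1, -1, 1],
  [0, 0, -1, 0, 1, -1, -1, 0, 0, 0, 0, 1, 0, -1, -1, -1, 0, 0, -1, 0, 0, -1, -1, -1],
  [1, 0, -1, 0, 1, 0, 0, 0, 0, 0, 0, 0, 1, 0, 0, 0, 1, 1, 1, 1, 0, 0, 0, 1],
  [0, 0, -1, -1, 1, 0, -1, -1, 0, 0, 0, 0, 0, 0, 0, -1, 1, 0, 0, 0, 0, 0, -1, 0],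
  [0, 0, -1, 0, 1, -1, 0, 0, -1, 0, 0, 0, 1, 0, 0, 0, 1, 1, 0, 1, 0, 0, 0, 1],
  [-1, -1, -1, -1, 0, 0, -1, -1, 0, -1, 0, -1, 0, 0, 0, -1, 0, -1, 0, 0, 0, 1, -1, 0],
  [0, 0, 0, 1, 1, 0, -1, 0, 1, 0, 0, 0, 0, 0, -1, -1, 0, -1, 0, 0, 0, 0, -1, -1],
  [1, 0, 0, 0, 1, 1, -1, 0, 1, 0, 0, 0, 0, 1, 0, -1, 1, 0, 1, 0, 0, 0, -1, 0],
  [1, 0, 1, 0, 1, 1, 0, 0, 1, 0, 1, 0, 1, 1, 1, 0, 1, 0, 1, 0, 1, 1, 0, 1],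
  [0, -1, 0, 0, 0, 0, -1, -1, 0, -1, -1, -1, 0, 0, -1, -1, 0, 0, 1, 0, 0, 0, 0, 0],
  [0, -1, 0, 0, 0, 0, -1, -1, 0, -1, 0, -1, 1, 1, 0, 0, 0, 0, 1, 0, 0, 1, 0, 1],
  [-1, -1, 0, 0, 0, 0, -1, 0, 1, -1, 0, 0, 0, 0, -1, -1, -1, -1, 0, 0, 0, 0, -2, -1],
  [0, -1, -1, -1, 0, 0, -1, 0, 0, -1, 0, -1, 0, 0, 0, 0, 0, 0, 0, 0, 0, 0, -1, 0],
  [0, -1, -1, 0, 0, 1, -1, -1, 0, 0, 0, 0, 0, 0, 0, -1, 0, 0, 0, 0, 0, 1, -1, 0],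
  [0, 0, -1, 0, 0, 0, 0, -1, 1, 0, 0, 0, -1, 0, 0, -1, 0, -1, 0, 0, -1, 0, -1, -1],
  [1, 0, 1, 1, 1, 2, 1, 1, 1, 0, 1, 0, 1, 1, 1, 0, 0, 0, 2, 1, 1, 1, 0, 1],
  [0, -1, 0, 0, 0, 1, -1, -1, 1, -1, 0, -1, 0, 1, 0, -1, 0, -1, 1, 0, 0, 1, -1, 0]]

theorem isoI : chkIso MI WI = true := by decide +kernel

noncomputable def MJ : List (List ℤ) :=
  [[0, -1, 0, 1, 0, 1, 0, 0, 0, 0, 0, 0, 0, -1, 0, 0, 1, -1, -1, 0, 0, -1, 0, 1],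
  [0, 0, 0, 1, -1, 1, 0, 0, -1, -1, 0, 0, 0, 0, 0, 0, 2, 0, 0, 1, 1, 0, 0, -2],
  [0, -1, 0, 0, -1, 0, -1, 0, -1, -1, -1, 1, 1, 1, 2, 2, 3, 1, 1, 2, 2, 2, 1, -8],
  [0, 0, 0, 1, 0, 1, 0, 0, -1, 0, -1, 0, 0, -1, 0, 1, 1, -1, 0, 0, 1, 0, -1, 0],
  [0, -1, 0, 1, 0, 1, 0, 1, -1, 0, -1, 0, 0, 0, 0, 1, 2, -2, -1, 0, 0, 0, 0, 0],
  [1, 0, 1, 1, 1, 2, 0, 1, 1, 1, 0, -2, -2, -3, -2, -1, -1, -3, -3, -2, -3, -2, -2, 10],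
  [0, 0, -1, 0, -1, 1, -1, 0, 0, 0, 0, 0, 1, 0, 0, 1, 1, 0, 1, 1, 1, 0, 1, -3],
  [0, 1, 0, 1, 1, 1, 0, 1, 0, 0, 0, -1, -2, -2, -1, -1, 0, -2, -1, -2, -1, -1, -1, 6],
  [0, 0, -1, 1, -1, 0, -1, 0, -1, 0, -1, 0, 1, 1, 1, 2, 2, 0, 1, 1, 2, 1, 0, -5],
  [0, 1, 0, 1, 0, 2, 0, 1, 0, 0, 0, -1, -1, -2, -2, -1, 0, -2, -2, -1, -1, -1, -1, 6],
  [0, -1, -1, 0, 0, 1, -1, 0, -1, -1, 0, 0, 1, 1, 1, 2, 2, 0, 1, 2, 1, 1, 2, -7],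
  [0, 1, 0, 1, 0, 1, 1, 0, 0, 0, 0, -1, -1, -1, -1, -1, 0, -1, -1, -1, 0, -1, -2, 4],
  [0, -2, 0, 0, 0, 0, -1, 0, -1, -1, 0, 1, 1, 1, 2, 2, 2, 0, 1, 2, 1, 1, 2, -7],
  [1, -1, 1, 1, 0, 1, 0, 1, 0, 1, 0, -1, -1, -1, -1, 0, 0, -2, -2, -1, -2, -1, -1, 5],
  [1, 0, 1, 1, 1, 2, 0, 1, 1, 1, 2, -2, -3, -3, -3, -2, -2, -3, -3, -2, -4, -3, -1, 12],
  [0, -1, -1, -1, -1, 0, -1, 0, -1, 0, 0, 1, 2, 2, 1, 2, 2, 1, 2, 2, 1, 1, 2, -8],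
  [0, -2, -1, 0, -1, 0, -1, 0, -1, 0, 0, 1, 2, 2, 1, 2, 2, 0, 1, 2, 1, 1, 2, -7],
  [0, -1, 0, 0, 1, 1, 0, 1, 0, 1, 0, 0, 0, -1, -1, 0, 0, -2, -1, -1, -2, -1, 0, 4],
  [1, -1, 0, 0, 0, 0, -1, 0, 0, 1, 0, 0, 0, 0, 0, 1, 0, -1, 0, 0, 0, 0, 0, 0],
  [1, 0, 0, 1, 0, 1, 0, 2, 0, 1, 1, -1, -2, -1, -3, -1, -1, -3, -2, -2, -2, -2, -1, 9],
  [0, -1, 0, 0, 0, 1, -1, 1, 0, 0, 0, 0, 0, 0, 0, 1, 1, -1, -1, 0, -1, 0, 1, 0],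
  [1, -1, -1, 0, 0, 1, -1, 0, 0, 0, 0, 0, 1, 0, 0, 2, 0, -1, 0, 1, 0, 0, 1, -2],
  [0, -1, 0, 0, -1, 1, -1, 0, 0, 0, 0, 1, 1, 0, 0, 1, 1, 0, 0, 1, 0, 0, 1, -2],
  [1, -2, 0, 0, 0, 1, -1, 1, 0, 1, 1, 0, 0, 0, -1, 1, 0, -2, -1, 0, -2, -1, 1, 2]]

noncomputable def WJ : List (List ℤ) :=
  [[0, -1, -1, 0, 0, 0, -1, 0, 0, 1, 0, 1, -1, -2, -1, -2, 0, -1, -1, -1, 0, -1, -1, -2],
  [1, 0, 0, 1, 0, 1, 0, 0, 0, 0, 0, 0, 0, 0, 0, -1, 1, 0, 1, 0, 0, 0, 0, 0],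
  [1, 0, 0, 0, 0, 1, 0, 1, 1, 1, 1, 1, -1, -1, 0, 0, 1, 0, 0, -1, 0, 0, -1, -1],
  [0, -1, 0, 0, 0, 1, 0, 1, 0, 0, 0, 0, 0, -1, 0, 0, 0, 0, 1, 0, 1, 0, -1, 0],
  [0, 0, 0, 0, 0, 0, 0, 0, 0, 0, 0, 0, 0, 0, 0, 0, 1, -1, 0, 0, 0, 0, 0, 0],
  [0, -1, -1, -1, 0, 0, -1, 0, 0, 0, 0, -1, 0, -1, 0, 0, 1, 0, 0, 0, 0, 0, -1, 0],
  [1, 0, 0, 0, 0, 1, 0, 1, 1, 1, 1, 0, 0, -1, 0, 0, 1, 0, 1, 0, 1, 0, 0, 0],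
  [0, 0, -1, -1, 0, 0, -1, 0, 0, 0, 0, 0, -1, -1, 0, -1, 1, -1, 0, -1, 0, -1, -1, -1],
  [0, 0, -1, 0, 0, 0, -1, 0, 0, 0, 0, -1, 0, 0, 0, 0, 1, 0, 0, 0, 0, 0, -1, 0],
  [-1, 0, -1, 0, 0, 0, -1, 0, 0, 0, 0, 0, 0, -1, -1, -1, 0, -1, -1, 0, 0, 0, -1, -1],
  [0, 0, -1, 0, 0, 0, -1, 0, 0, 0, 0, 0, -1, -1, -1, -1, 0, -1, -1, -1, -1, -1, -1, -2],
  [-1, 0, -1, 0, 0, 1, 0, 0, 1, 0, 0, 0, -1, 0, 0, -1, 0, -1, 0, 0, 0, 0, -2, -1],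
  [1, 0, 1, 0, 0, 0, 0, 1, 0, 0, 1, 1, 0, -1, 0, 0, 0, -1, 0, -1, 0, -1, 0, -1],
  [2, 0, 1, 1, 0, 1, 1, 1, 0, 1, 1, 0, 1, 0, 1, 1, 1, 1, 1, 0, 0, 1, 1, 1],
  [1, 0, 0, 0, 0, 0, 0, 0, 0, 1, 1, 0, 0, -1, 0, 0, 1, 0, 0, 0, 0, 0, 1, 0],
  [2, 1, 0, 0, 0, 0, 0, 1, 0, 1, 1, 1, 0, -1, 0, 0, 1, 0, 0, -1, -1, -1, 0, -1],
  [0, -1, -1, 0, -1, -1, -1, -1, -1, 0, 0, 0, 0, -1, -1, -1, 0, -1, -1, -1, -1, 0, 0, -1],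
  [1, 0, 0, 0, 1, 0, 0, 1, 0, 1, 1, 1, 1, -1, 0, 0, 1, 0, 0, 0, 0, 0, 0, 0],
  [1, -1, 0, -1, 0, 0, -1, 0, 0, 1, 1, 0, 0, -1, 0, 0, 1, 0, 0, -1, 1, 0, 0, 0],
  [1, 0, 1, 0, 0, 0, 0, 1, 0, 0, 1, 0, 1, 0, 0, 1, 1, 0, 1, 0, 1, 0, 1, 1],
  [0, 0, 0, -1, 0, 0, -1, 0, 0, 0, 1, 0, 0, 0, 0, 1, 1, 0, -1, -1, 0, 0, 0, 0],
  [1, 0, 0, 0, 0, 0, 0, 1, 0, 0, 1, 0, 1, -1, 0, 1, 0, 0, 0, 0, 0, 0, 0, 0],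
  [1, 0, 1, 1, 0, 1, 0, 1, 1, 1, 1, 2, 0, -1, -1, 0, 0, 0, 0, -1, 0, 0, 0, -1],
  [2, 0, 1, 0, 0, 0, 0, 1, 0, 1, 2, 1, 1, -1, 0, 1, 1, 0, 0, -1, 0, 0, 1, 0]]

theorem isoJ : chkIso MJ WJ = true := by decide +kernel

noncomputable def MR : List (List ℤ) :=
  [[0, 0, 0, 0, 0, -1, 0, 0, 0, 0, -1, 0, 0, 1, 1, 1, 0, 0, 0, 0, 1, 1, 0, -2],
  [0, -1, 0, 0, 0, 0, 0, 0, 1, 1, 0, 0, 0, 0, 0, 0, -1, -1, -1, -1, -1, -1, 0, 3],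
  [1, 1, 0, 1, 1, 1, 1, 1, 1, 1, 1, -2, -3, -2, -3, -2, -3, -3, -3, -3, -3, -3, -2, 13],
  [0, 0, 0, -1, 0, 0, 0, 0, 0, 0, 0, 0, 0, 1, 0, 0, 0, 0, 0, 0, 0, 0, 1, -1],
  [1, 1, 1, 0, 0, 0, 1, 0, 1, 1, 1, -1, -2, -1, -2, -2, -3, -1, -2, -2, -2, -2, -2, 9],
  [0, 0, 0, 0, 0, -1, 1, 0, -1, 0, 0, 0, 0, 1, 0, 0, 0, 0, 0, 0, 1, 0, 0, -1],
  [0, 0, 1, 1, 1, 0, 0, 1, 0, 1, 0, -1, -2, -1, -1, -1, -1, -2, -2, -2, -2, -1, -1, 7],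
  [0, -1, 0, 0, 0, 0, 0, -1, 0, 0, 0, 0, 1, 1, 1, 1, 0, 0, 0, 1, 0, 0, 1, -3],
  [0, 0, 1, 0, 1, 1, 1, 1, 0, 1, 1, -1, -2, -1, -2, -2, -2, -2, -2, -2, -3, -2, -1, 9],
  [0, -1, 1, 0, 0, -1, 0, 0, 0, 0, 0, 0, 0, 1, 1, 0, 0, 0, 0, 0, 0, 0, 0, -1],
  [1, 0, 1, 1, 0, 0, 1, 1, 1, 1, 0, -1, -2, -1, -2, -2, -2, -2, -3, -2, -2, -2, -2, 10],
  [0, -1, 0, -1, 0, 0, -1, 0, 0, 0, 0, 0, 1, 1, 1, 1, 0, 0, 1, 1, 0, 1, 2, -4],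
  [1, 1, 0, 1, 0, 0, 1, 0, 1, 1, 0, -1, -2, -1, -2, -1, -2, -1, -2, -2, -1, -2, -2, 8],
  [0, 1, 0, 0, 0, 0, 1, 0, 0, 0, 0, 0, -1, -1, -1, -1, -1, 0, -1, -1, 0, -1, -1, 4],
  [0, 0, 0, 1, 0, -1, 1, 0, 0, 0, -1, 0, 0, 0, 0, 0, 0, 0, -1, -1, 1, 0, -1, 1],
  [1, 1, 1, 2, 1, 1, 1, 1, 1, 1, 1, -2, -4, -3, -3, -3, -3, -3, -4, -3, -3, -3, -3, 15],
  [1, 1, 1, 1, 1, 0, 1, 1, 1, 1, 0, -1, -3, -2, -2, -2, -3, -2, -3, -3, -2, -2, -3, 12],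
  [1, 1, 1, 1, 0, 0, 1, 0, 0, 0, 0, -1, -2, -1, -1, -1, -1, -1, -2, -1, 0, -1, -2, 5],
  [0, 1, 0, 1, 1, 0, 1, 1, 0, 0, 0, -1, -2, -1, -1, -1, -1, -1, -2, -2, -1, -1, -1, 6],
  [0, 1, 1, 1, 1, 0, 1, 0, 1, 1, 0, -1, -2, -2, -1, -2, -2, -1, -2, -3, -2, -2, -2, 9],
  [1, 1, 1, 1, 1, 0, 2, 1, 1, 1, 1, -2, -3, -2, -3, -3, -3, -2, -3, -3, -3, -3, -3, 13],
  [0, 1, 1, 1, 0, 0, 1, 1, 0, 1, 0, -1, -2, -1, -2, -2, -1, -1, -2, -2, -1, -2, -2, 8],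
  [1, 1, 1, 1, 1, 0, 1, 1, 1, 1, 0, -2, -3, -2, -2, -2, -2, -2, -3, -3, -2, -2, -3, 11],
  [1, 2, 1, 2, 1, 0, 2, 1, 1, 1, 0, -2, -4, -3, -3, -3, -3, -2, -4, -4, -2, -3, -4, 15]]

noncomputable def WR : List (List ℤ) :=
  [[-2, 0, 0, -1, -1, -1, 0, -1, 0, -1, -1, -1, -1, 1, 0, 1, -1, -1, -1, 0, 0, 0, 0, 0],
  [-2, -2, -1, -2, -2, -1, -1, -2, -1, -1, -1, -1, -1, 0, 0, 0, -1, -1, -1, -1, 0, 0, 0, 0],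
  [-2, -1, -2, -2, -2, -2, -1, -2, -2, -2, -2, -2, -1, 0, 0, 0, -1, -1, -1, 0, -1, -1, 0, 0],
  [-1, 0, 0, -2, -1, -1, -1, -2, -1, -1, -1, -1, -1, 1, 0, 0, 0, -1, -1, -1, 0, -1, 1, 0],
  [-1, 0, 0, -1, -2, -1, 0, -1, -1, -1, -1, 0, -1, 0, 0, 0, -2, -1, -1, -1, -1, -1, 0, -1],
  [-1, 0, 0, -1, -1, -2, 0, -1, -2, -1, -1, -1, 0, 0, 0, 0, -1, -1, -1, 0, 0, -1, 1, 0],
  [-2, -1, -1, -1, -1, -2, -2, -2, -2, -1, -2, -1, -1, 0, -1, -1, -1, -1, -2, -1, -1, -1, 0, -1],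
  [-1, 0, 0, 0, -1, -1, 0, -2, -1, -1, -1, -1, 0, 1, 0, 0, -1, -1, -1, 0, -1, 0, 1, 0],
  [-1, -1, 0, -1, -1, 0, 0, -1, -2, -1, -1, -1, 0, 1, 1, 0, -1, 0, 0, 0, 0, 0, 1, 1],
  [-1, -1, 1, -1, -1, -1, -1, -1, -1, -2, -1, -1, 0, 1, 0, 0, -1, -1, 0, -1, 0, -1, 0, 0],
  [-1, -1, 0, 0, -1, -1, 0, -1, -1, -1, -2, -1, 0, 1, 0, 0, -1, 0, 0, 1, 0, 0, 1, 1],
  [0, -1, 1, -1, -1, 0, 0, -1, -1, -1, 0, -2, 1, 1, 1, 1, 0, 0, 1, 0, 1, 1, 2, 2],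
  [-1, 0, -1, 0, -1, -1, 0, -1, 0, 0, -2, 0, -2, 0, -1, 0, -1, 0, -1, 0, -1, -1, 0, -1],
  [-2, -1, -2, -2, -2, -2, -1, -1, -2, -1, -2, 0, -2, -2, -1, -1, -2, -1, -2, -1, -1, -2, -1, -2],
  [-2, -1, -1, 0, -1, -2, -1, -1, -1, -1, -2, 0, -1, -1, -2, -1, -2, -1, -2, -1, -1, -1, -1, -2],
  [-2, -1, -2, 0, -1, -1, -1, -1, -1, 0, -2, 0, -2, -1, -1, -2, -2, -1, -2, 0, -1, -1, -1, -2],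
  [-1, 0, 0, 0, 0, 0, 0, 1, 0, 0, -1, 1, -1, 0, 0, 0, -2, 0, -1, 0, 0, -1, -1, -1],
  [-1, 1, 0, 0, -1, -1, 0, 0, 0, 0, -1, 1, -2, -1, -1, -1, -2, -2, -2, -1, -1, -2, -1, -3],
  [-1, 1, -1, 0, 0, -1, 0, 0, -1, 0, -1, 0, -1, 0, 0, 0, -1, 0, -2, 0, -1, -1, 0, -1],
  [-1, 0, -1, 0, -1, -1, -1, -1, -1, 0, -2, 1, -2, -1, -1, -2, -2, -1, -2, -2, -2, -2, -1, -3],
  [-1, 0, -1, 0, -1, -2, 0, 0, -1, -1, -2, 0, -1, -1, -1, -1, -2, -1, -1, 0, -2, -2, -1, -2],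
  [-1, 0, 0, 0, 0, -1, -1, 0, -1, 0, -2, 0, -1, 0, -1, -1, -1, 0, -1, 0, 0, -2, 0, -1],
  [-2, -1, -2, -2, -1, -2, -2, -1, -1, -1, -2, -1, -2, -1, -1, -1, -1, -1, -2, -1, -1, -2, -2, -2],
  [-2, 0, -2, 0, -1, -2, -1, 0, -1, 0, -3, 1, -3, -2, -2, -2, -3, -1, -3, -1, -2, -3, -2, -4]]

theorem isoR : chkIso MR WR = true := by decide +kernel

noncomputable def MS : List (List ℤ) :=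
  [[0, 0, 0, -1, 0, 0, 0, 1, 0, -1, 0, 0, 0, 1, 0, 0, 0, 1, 0, 0, 0, 1, 1, -2],
  [-1, -1, -1, -2, -1, -1, -1, -1, -1, -2, 0, 2, 3, 3, 3, 2, 2, 4, 3, 4, 3, 3, 4, -15],
  [0, 0, 0, 0, 0, 0, 1, 0, 0, -1, 0, 0, 0, 0, 0, 0, 0, 1, -1, 0, 1, 0, 0, -1],
  [0, -1, -1, -1, -1, -1, -1, 0, 0, -1, -1, 2, 2, 2, 2, 2, 1, 2, 1, 2, 2, 2, 2, -8],
  [0, 0, -1, 0, 1, 0, 0, 0, 0, 0, 0, 0, 0, 0, 0, 1, -1, 0, 0, -1, 0, 0, 1, 0],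
  [0, 1, 1, 1, 1, 1, 1, 2, 2, 1, 1, -2, -3, -3, -3, -3, -3, -2, -4, -4, -4, -3, -2, 15],
  [0, 0, 0, -1, -1, 0, 1, 1, 0, 0, 0, 0, 1, 1, -1, -1, 0, 1, -1, 0, 0, 0, 0, 0],
  [-1, -1, -1, -1, 0, -1, 0, 0, 0, -1, 0, 1, 2, 2, 2, 1, 1, 2, 1, 1, 1, 1, 2, -7],
  [-1, 0, -1, -1, 0, -1, 0, 0, 0, -1, -1, 1, 2, 1, 2, 1, 1, 2, 1, 1, 2, 2, 2, -7],
  [-1, -1, -1, -1, -1, -1, -1, 0, 0, -1, -1, 1, 3, 2, 3, 2, 2, 3, 2, 2, 2, 2, 3, -11],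
  [-1, 0, 0, 0, 0, 0, 1, 1, 0, -1, 0, 0, 0, 0, 0, -1, 1, 1, -1, -1, 0, 0, 1, 0],
  [-1, -1, -1, -2, -1, -2, -1, -1, 0, -1, -1, 2, 3, 3, 4, 2, 2, 4, 3, 3, 3, 3, 3, -14],
  [1, 1, 1, 1, 1, 1, 1, 1, 0, 0, 1, -1, -3, -2, -3, -2, -2, -2, -3, -3, -2, -2, -2, 11],
  [1, 1, 1, 1, 1, 2, 1, 1, 1, 1, 1, -2, -3, -3, -4, -2, -3, -3, -4, -3, -3, -3, -2, 14],
  [1, 1, 2, 1, 1, 2, 2, 2, 1, 1, 2, -3, -4, -3, -5, -4, -3, -3, -5, -4, -5, -4, -3, 18],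
  [0, 1, 0, 0, 0, 1, 2, 1, 0, 0, 1, -1, -1, -1, -3, -2, -1, -1, -2, -2, -1, -2, -1, 7],
  [0, 1, 0, 0, 1, 1, 1, 1, 0, 0, 0, -1, -1, -1, -2, -1, -1, -1, -1, -2, -1, -1, 0, 5],
  [1, 1, 0, 1, 1, 1, 1, 2, 1, 1, 1, -2, -3, -2, -4, -2, -3, -3, -3, -4, -3, -3, -2, 14],
  [1, 1, 1, 1, 1, 1, 2, 2, 1, 1, 1, -2, -3, -2, -4, -3, -3, -3, -4, -4, -3, -3, -3, 15],
  [1, 0, 0, 0, 1, 1, 1, 1, 0, 1, 1, -1, -1, -1, -3, -1, -2, -2, -2, -2, -2, -2, -1, 8],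
  [1, 1, 1, 2, 2, 2, 2, 2, 1, 1, 1, -3, -4, -4, -4, -3, -3, -4, -5, -5, -4, -4, -3, 18],
  [0, 1, 1, 1, 0, 1, 1, 2, 0, 1, 0, -1, -2, -2, -3, -2, -1, -2, -3, -3, -2, -2, -2, 11],
  [1, 0, 1, 0, 0, 1, 1, 1, 0, 0, 0, -1, -1, -1, -2, -1, -1, -1, -2, -1, -1, -1, -1, 5],
  [2, 2, 2, 2, 2, 3, 3, 3, 1, 2, 2, -4, -6, -5, -8, -5, -5, -6, -7, -7, -6, -6, -5, 28]]

noncomputable def WS : List (List ℤ) :=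
  [[0, 0, 1, 0, 0, 1, 0, 1, 0, -1, 0, 0, 0, 1, 0, 1, -1, 1, 0, -1, 0, 0, 0, 0],
  [0, 0, 0, 0, 0, 0, 0, 0, -1, 0, 0, 0, 0, 0, 0, 0, -1, 1, -1, 0, 0, 0, 1, 0],
  [-1, 0, 0, 0, 0, 0, 0, 1, 0, 0, 0, 1, -1, -1, -1, 0, -2, 0, -2, -1, 0, -1, -1, -2],
  [0, 0, 0, 0, 0, 0, 0, 1, 0, 0, 0, 1, 0, 0, 0, 1, -1, 1, -1, 0, 0, 0, 0, 0],
  [0, 0, 0, 0, 0, 0, 0, 0, -1, 0, 0, 0, 0, 0, 0, 1, -1, 1, -1, -1, 0, 0, 1, 0],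
  [-1, 0, 0, 0, 0, 0, 0, 1, 0, 0, 0, 0, 0, 0, 0, 1, -1, 1, -1, 0, 0, 0, 0, 0],
  [0, 0, 0, 0, 0, 0, 0, 1, -1, 0, 0, 0, 1, 0, 0, 0, -1, 1, -1, 0, 0, 0, 0, 0],
  [-1, 0, -1, -1, 0, -1, -1, 0, -1, -1, 0, 0, 0, 0, 0, 0, -1, 0, -2, -1, -1, -1, -1, -1],
  [0, 1, 0, 0, 1, 0, 1, 1, 0, 1, 1, 0, 1, 0, 1, 1, 0, 1, -1, 1, 1, 1, 1, 1],
  [1, 0, 0, 0, 0, 0, 0, 1, -1, 0, 0, -1, 1, 0, 1, 1, 0, 2, 0, 0, 0, 0, 1, 1],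
  [0, 0, 0, 0, 0, 0, 0, 0, -1, 0, 0, 0, 0, 0, 0, 0, 0, 1, -1, -1, 0, 0, 1, 0],
  [0, 0, -1, -1, 0, 0, 0, 0, 0, 1, 0, 0, -1, 0, 1, 0, 0, 1, -1, 0, 0, 0, 0, 0],
  [0, 0, 1, 0, 0, 0, -1, 0, -1, -1, 0, 1, 0, 0, -1, 0, -1, 0, -1, -2, 0, -1, 0, -1],
  [-1, 0, 1, 0, 0, 0, 0, 0, 0, 0, 0, 0, 0, 0, -1, 1, -1, 0, -1, 0, 1, 0, 1, 0],
  [0, 0, 1, 0, 0, 0, 0, 0, -1, -1, 0, -1, 1, 1, 0, 1, 0, 1, 0, 0, 0, 0, 1, 1],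
  [-1, 0, 0, -1, -1, -1, 0, 0, -1, -1, 0, 0, 0, -1, -1, 0, -1, -1, -1, -1, 0, -1, 0, -1],
  [1, 1, 2, 1, 1, 1, 1, 1, 0, 0, 0, 0, 1, 1, 0, 1, 0, 1, 1, 0, 1, 0, 2, 1],
  [-1, -1, 0, -1, -1, -1, -1, 0, -1, -2, -1, -1, 0, 0, -1, 1, -1, 0, 0, -1, 0, -1, 0, 0],
  [0, 1, 2, 1, 1, 1, 1, 2, 1, 0, 1, 1, 1, 1, 0, 1, -1, 0, 0, 0, 1, 0, 0, 0],
  [1, 0, 1, 0, 1, 0, 0, 1, -1, 0, 1, 0, 2, 0, 0, 1, 0, 1, 0, 0, 1, 0, 1, 1],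
  [0, 0, 0, 0, 0, 0, 0, 1, -1, 0, 0, 0, 0, -1, 0, 0, -1, 0, -1, -1, 0, -1, 0, -1],
  [0, 0, 1, 0, 0, 0, 0, 1, -1, 0, 0, 0, 1, 0, 0, 1, 0, 1, 0, 0, 1, 0, 1, 1],
  [0, -1, 1, 0, -1, 0, 0, 1, -1, -1, -1, 0, 0, -1, -1, 0, -2, 0, 0, -1, 0, -1, 0, -1],
  [0, 0, 2, 0, 0, 0, 0, 1, -1, -1, 0, 0, 1, 0, -1, 1, -1, 0, 0, -1, 1, -1, 1, 0]]

theorem isoS : chkIso MS WS = true := by decide +kernel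

noncomputable def MN : List (List ℤ) :=
  [[-7, 2, 3, 6, 1, 15, 4, 13, 10, 11, 4, -11, -16, -16, -19, -15, -9, -20, -27, -22, -32, -24, -9, 97],
  [-7, -17, -19, -10, -13, -16, -11, -10, -23, -22, -30, 36, 36, 37, 47, 44, 44, 31, 36, 42, 62, 41, 26, -183],
  [-5, -7, -30, 1, -14, -9, -21, -6, -16, -19, -22, 30, 22, 33, 42, 44, 38, 23, 33, 29, 51, 33, 22, -147],
  [-3, 5, -12, 0, -19, -9, -13, -3, -11, -5, -7, 17, 8, 20, 15, 20, 23, 11, 22, 12, 26, 12, 2, -61],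
  [-4, -15, -16, 0, -21, -12, -13, -4, -19, -11, -18, 27, 28, 31, 33, 31, 35, 19, 25, 29, 39, 29, 20, -129],
  [-6, -12, -18, 2, -7, -19, -3, -8, -13, -1, 0, 20, 16, 22, 25, 18, 15, 14, 15, 16, 24, 11, 11, -74],
  [-6, -9, -7, -3, -13, -23, -15, -16, -16, -17, -22, 29, 29, 28, 44, 34, 34, 34, 29, 36, 55, 37, 13, -155],
  [-1, -13, -13, -3, -16, -21, -15, -24, -28, -13, -19, 31, 33, 38, 45, 44, 39, 33, 40, 42, 55, 43, 14, -179],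
  [-3, -10, -28, -1, -15, -15, -18, -15, -35, -16, -27, 37, 34, 42, 50, 57, 45, 28, 43, 42, 66, 38, 18, -189],
  [-6, -5, -1, -1, -8, -11, -5, -5, -7, -8, -8, 15, 16, 10, 13, 12, 16, 13, 13, 15, 14, 11, 7, -55],
  [-3, -7, -4, -6, -8, -19, -4, -10, -12, -6, -23, 20, 21, 22, 30, 21, 25, 22, 18, 23, 32, 25, 7, -101],
  [1, -5, -14, -6, -13, -20, -17, -19, -19, -8, -18, 19, 32, 30, 36, 42, 29, 29, 45, 33, 45, 35, 13, -154],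
  [-4, 2, 3, 2, -3, 0, -3, 7, 3, -2, -4, 0, -11, 0, 2, -4, 4, -2, -4, -5, -2, 3, 1, 10],
  [-6, -10, -15, 3, 2, 0, 2, 4, -2, -3, -6, 13, 3, 0, 16, 7, 6, -3, -6, -1, 10, -2, 8, -11],
  [-1, -7, 9, 0, 11, -3, 13, -1, 5, 7, 2, -3, -6, -15, -8, -15, -14, -5, -23, -9, -13, -9, -8, 49],
  [-3, -6, -9, 1, 3, -3, 5, -4, -13, -7, -13, 10, 8, 11, 19, 9, 14, 7, 1, 8, 25, 12, -1, -50],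
  [0, -1, 5, 6, 15, 23, 17, 20, 14, 14, 3, -16, -26, -28, -28, -27, -28, -37, -48, -37, -45, -39, -18, 157],
  [-3, -1, 5, 10, 6, 12, 11, 13, 8, 14, 11, -14, -18, -18, -23, -25, -15, -29, -32, -28, -36, -27, -15, 114],
  [0, -1, -8, 6, 2, 10, 4, 7, 1, 1, 3, -3, -13, -2, -2, -1, -2, -11, -22, -11, -6, -13, -5, 40],
  [-7, -12, -5, -1, -10, -14, -5, -6, -15, -14, -19, 25, 23, 21, 31, 23, 28, 21, 16, 19, 40, 28, 12, -110],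
  [-3, -19, -9, 1, -10, -16, -8, -4, -13, -7, -13, 23, 21, 24, 32, 22, 27, 20, 14, 21, 25, 25, 12, -102],
  [-2, 4, 6, 9, -1, -4, 6, 2, 5, 9, 2, -4, -12, -7, -6, -12, -5, -7, -14, -15, -9, -18, -17, 54],
  [-11, -2, -3, 5, -3, -3, -1, 10, 6, -11, -8, 10, -1, -2, 10, 1, 9, 3, -7, -2, 8, 5, 1, -4],
  [-5, -6, 4, 8, 10, 7, 14, 13, 9, 6, 1, -6, -17, -17, -8, -20, -12, -18, -36, -25, -21, -19, -12, 86]]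

/-- The matrix of a product. -/
noncomputable def mm (A B : List (List ℤ)) : List (List ℤ) :=
  (fun cs => mapR (fun b => mapR (dotZ b) cs) B) (mapR (colZ A) (List.range 24))

/-- Scalar matrices. -/
noncomputable def sc (c : ℤ) : List (List ℤ) :=
  mapR (fun k => mapR (fun l => ite' (Nat.beq k l) c 0) (List.range 24)) (List.range 24)

noncomputable def pw (A : List (List ℤ)) (n : ℕ) : List (List ℤ) :=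
  Nat.rec (motive := fun _ => List (List ℤ)) (sc 1) (fun _ ih => mm ih A) n

noncomputable def eqM (A B : List (List ℤ)) : Bool :=
  allLT 24 fun k => allLT 24 fun l => eqZ (ent A k l) (ent B k l)

theorem ent_mm (A : List (List ℤ)) {B : List (List ℤ)} (hB : ∀ k, (getL [] B k).length ≤ 24) (k l : Fin 24) :
    ent (mm A B) k l = ∑ m : Fin 24, ent B k m * ent A m l := by
  have e : ent (mm A B) k l = dotZ (getL [] B k) (colZ A l) := by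
    simp only [ent, mm, mapR_eq, getL_eq]
    by_cases h : (k : ℕ) < B.length
    · rw [List.getD_eq_getElem (List.map _ B) _ (by simpa using h), List.getD_eq_getElem B _ h,
        List.getD_eq_getElem _ _ (by simp)]
      simp
    · rw [List.getD_eq_default (List.map _ B) _ (by simpa using h), List.getD_eq_default B _ (by simpa using h)]
      rfl
  rw [e, dotZ_eq_fin _ _ (Or.inl (hB k))]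
  exact Finset.sum_congr rfl fun m _ => by rw [toF, toF, getL_colZ]; rfl

theorem rowMap_mm (A : List (List ℤ)) {B : List (List ℤ)} (hB : ∀ k, (getL [] B k).length ≤ 24) (a : Fin 24 → ℤ) :
    rowMap (mm A B) a = rowMap A (rowMap B a) := funext fun l => by
  simp only [rowMap, ent_mm A hB, Finset.mul_sum, Finset.sum_mul, mul_assoc]
  exact Finset.sum_comm

theorem ent_sc (c : ℤ) (k l : Fin 24) : ent (sc c) k l = if k = l then c else 0 := by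
  simp only [ent, sc, mapR_eq, getL_eq]
  rw [List.getD_eq_getElem (List.map _ _) _ (by simp), List.getD_eq_getElem _ _ (by simp)]
  by_cases h : k = l
  · subst h; simp [ite'_eq]
  · simp [ite'_eq, h, Fin.val_inj]

theorem rowMap_sc (c : ℤ) (a : Fin 24 → ℤ) : rowMap (sc c) a = c • a := funext fun l => by
  simp [rowMap, ent_sc, mul_comm]

theorem len_map {α : Type} (l : List α) (f : α → List ℤ) (h : ∀ a, (f a).length ≤ 24) (k : ℕ) :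
    (getL [] (mapR f l) k).length ≤ 24 := by
  rw [mapR_eq, getL_eq, List.getD_eq_getElem?_getD, List.getElem?_map]
  cases l[k]? <;> simp [h]

/-- `A` is the matrix of `g`. -/
def Rp (g : Co0) (A : List (List ℤ)) : Prop :=
  (∀ k, (getL [] A k).length ≤ 24) ∧ ∀ a, g • emb a = emb (rowMap A a)

theorem Rp.mul {g h : Co0} {A B : List (List ℤ)} (hg : Rp g A) (hh : Rp h B) : Rp (g * h) (mm A B) :=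
  ⟨len_map _ _ fun _ => by simp, fun a => by rw [mul_smul, hh.2, hg.2, rowMap_mm A hh.1]⟩

theorem rp_one : Rp 1 (sc 1) := ⟨len_map _ _ fun _ => by simp, fun a => by simp [rowMap_sc]⟩

theorem rp_neg : Rp negOne (sc (-1)) := ⟨len_map _ _ fun _ => by simp, fun a => by simp [rowMap_sc]⟩

theorem Rp.pow {g : Co0} {A : List (List ℤ)} (hg : Rp g A) (n : ℕ) : Rp (g ^ n) (pw A n) := by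
  induction n with
  | zero => exact pow_zero g ▸ rp_one
  | succ n ih => exact pow_succ g n ▸ ih.mul hg

theorem Rp.eq {g h : Co0} {A B : List (List ℤ)} (hg : Rp g A) (hh : Rp h B) (e : eqM A B = true) : g = h := by
  simp only [eqM, allLT_iff, eqZ_iff] at e
  refine co0_ext fun v => ?_
  obtain ⟨a, rfl⟩ := emb_surjective v
  rw [hg.2, hh.2]
  exact congrArg emb (funext fun l => Finset.sum_congr rfl fun k _ => by rw [e k k.2 l l.2])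

theorem rp_elt {C W : List (List ℤ)} (h : chkIso C W = true) (hl : C.length = 24) : Rp (elt C W h) C :=
  ⟨fun k => by
    by_cases hk : k < 24
    · exact len_of_chkIso h hk
    · rw [getL_eq, List.getD_eq_default _ _ (by omega)]; simp, elt_smul C W h⟩

theorem chkN : (allLT 24 fun k => allLT 24 fun l =>
    eqZ (ent (mm MN MX) k l) (Int.add (ent MN k l) (ent (sc 13) k l))) = true := by decide +kernel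

theorem exists_elts : ∃ x i j r s : Co0, x ^ 13 = 1 ∧
    (∃ ν : leechLattice →+ leechLattice, ∀ v, ν (x • v - v) = (13 : ℤ) • v) ∧
    i * x = x * i ∧ j * x = x * j ∧ r * x = x * r ∧ x * s * x = s ∧ i * i = negOne ∧ j * j = negOne ∧
    i * j * (i * j) = negOne ∧ s * s = negOne ∧ s * i = i * s ∧ s * j = j * s ∧ r * i = j * r ∧
    r * j = i * j * r := by
  have x := rp_elt isoX rfl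
  have i := rp_elt isoI rfl
  have j := rp_elt isoJ rfl
  have r := rp_elt isoR rfl
  have s := rp_elt isoS rfl
  refine ⟨_, _, _, _, _, (x.pow 13).eq rp_one (by decide +kernel), ?_,
    (i.mul x).eq (x.mul i) (by decide +kernel), (j.mul x).eq (x.mul j) (by decide +kernel),
    (r.mul x).eq (x.mul r) (by decide +kernel), ((x.mul s).mul x).eq s (by decide +kernel),
    (i.mul i).eq rp_neg (by decide +kernel), (j.mul j).eq rp_neg (by decide +kernel),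
    ((i.mul j).mul (i.mul j)).eq rp_neg (by decide +kernel), (s.mul s).eq rp_neg (by decide +kernel),
    (s.mul i).eq (i.mul s) (by decide +kernel), (s.mul j).eq (j.mul s) (by decide +kernel),
    (r.mul i).eq (j.mul r) (by decide +kernel), (r.mul j).eq ((i.mul j).mul r) (by decide +kernel)⟩
  have hN := chkN
  simp only [allLT_iff, eqZ_iff] at hN
  let ν : (Fin 24 → ℤ) →+ (Fin 24 → ℤ) := AddMonoidHom.mk' (rowMap MN) fun a b => funext fun l => by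
    simp [rowMap, add_mul, Finset.sum_add_distrib]
  refine ⟨(emb.toAddMonoidHom.comp ν).comp embEquiv.symm.toLinearMap.toAddMonoidHom, fun v => ?_⟩
  obtain ⟨a, rfl⟩ := emb_surjective v
  rw [x.2, ← map_sub, ← map_smul]
  change emb (ν (embEquiv.symm (embEquiv _))) = _
  rw [LinearEquiv.symm_apply_apply, map_sub]
  change emb (rowMap MN _ - rowMap MN a) = _
  rw [← rowMap_mm MN x.1, ← rowMap_sc]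
  refine congrArg emb (funext fun l => ?_)
  simp only [Pi.sub_apply, rowMap, ← Finset.sum_sub_distrib]
  exact Finset.sum_congr rfl fun k _ => by rw [hN k k.2 l l.2, Int.add_def]; ring

end Cfsg.Agent.RV.M13
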